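import Cfsg.Agent.Lib.Coprime.Action
import Mathlib.GroupTheory.SemidirectProduct
import Mathlib.GroupTheory.Nilpotent
import Mathlib.GroupTheory.PGroup
import Cfsg.Agent.Lib.PGroup.Elements

/-!
# Frobenius groups of operators: basic notions

`F` and `H` are subgroups of an operator group `A` acting on a finite group `G`.
-/

set_option autoImplicit false
set_option linter.style.haveILetI false
set_option linter.unusedVariables false
set_option linter.unusedSectionVars false

namespace Cfsg.Lib.FrobKernel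

open Subgroup

universe v u

variable {A : Type v} [Group A] {G : Type u} [Group G] [MulDistribMulAction A G]

/-- The subgroup `K` is mapped into itself by `B`. -/
def Inv (B : Subgroup A) (K : Subgroup G) : Prop := ∀ a ∈ B, ∀ x ∈ K, a • x ∈ K

variable (G) in
/-- The fixed points of `B`. -/
def fix (B : Subgroup A) : Subgroup G where
  carrier := {g | ∀ b ∈ B, b • g = g}
  mul_mem' := fun {x y} hx hy b hb => by rw [smul_mul', hx b hb, hy b hb]
  one_mem' := fun b _ => smul_one b
  inv_mem' := fun {x} hx b hb => by rw [smul_inv', hx b hb]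

theorem mem_fix {B : Subgroup A} {g : G} : g ∈ fix G B ↔ ∀ b ∈ B, b • g = g := Iff.rfl

theorem fix_anti {B C : Subgroup A} (h : B ≤ C) : fix G C ≤ fix G B :=
  fun _ hg b hb => hg b (h hb)

variable (G) in
/-- `F` fixes only the identity. -/
def Fpf (F : Subgroup A) : Prop := ∀ g : G, (∀ f ∈ F, f • g = g) → g = 1

/-- `H` normalizes `F`, has coprime order and acts on it without fixed points; `F` is nilpotent. -/
structure Frob (F H : Subgroup A) : Prop where
  norm : ∀ h ∈ H, ∀ f ∈ F, h * f * h⁻¹ ∈ F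
  cop : (Nat.card F).Coprime (Nat.card H)
  fpf : ∀ h ∈ H, h ≠ 1 → ∀ f ∈ F, h * f = f * h → f = 1
  nil : Group.IsNilpotent F

theorem nilpotent_of_le {K L : Subgroup G} (h : K ≤ L) (hL : Group.IsNilpotent L) :
    Group.IsNilpotent K := by
  haveI := hL
  exact Group.nilpotent_of_mulEquiv (subgroupOfEquivOfLe h)

theorem Frob.mono {F H F' H' : Subgroup A} (h : Frob F H) (hF : F' ≤ F) (hH : H' ≤ H)
    (hn : ∀ x ∈ H', ∀ f ∈ F', x * f * x⁻¹ ∈ F') : Frob F' H' :=
  ⟨hn, (h.cop.coprime_dvd_left (card_dvd_of_le hF)).coprime_dvd_right (card_dvd_of_le hH),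
    fun x hx h1 f hf e => h.fpf x (hH hx) h1 f (hF hf) e, nilpotent_of_le hF h.nil⟩

/-- `F` and `H` normalize `B`. -/
def Norm (F H B : Subgroup A) : Prop := ∀ a ∈ F ⊔ H, ∀ b ∈ B, a * b * a⁻¹ ∈ B

theorem norm_of_gen {F H B : Subgroup A} [Finite A]
    (hF : ∀ a ∈ F, ∀ b ∈ B, a * b * a⁻¹ ∈ B) (hH : ∀ a ∈ H, ∀ b ∈ B, a * b * a⁻¹ ∈ B) :
    Norm F H B := by
  have h1 : ∀ C : Subgroup A, (∀ a ∈ C, ∀ b ∈ B, a * b * a⁻¹ ∈ B) →
      C ≤ normalizer (B : Set A) := fun C hC a ha => mem_normalizer_iff.2 fun b =>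
    ⟨hC a ha b, fun h => by simpa [mul_assoc] using hC a⁻¹ (inv_mem ha) _ h⟩
  exact fun a ha b hb => (mem_normalizer_iff.1 (sup_le (h1 F hF) (h1 H hH) ha) b).1 hb

theorem Frob.norm_sup [Finite A] {F H : Subgroup A} (h : Frob F H) : Norm F H F :=
  norm_of_gen (fun a ha b hb => mul_mem (mul_mem ha hb) (inv_mem ha)) h.norm

theorem inv_top (B : Subgroup A) : Inv B (⊤ : Subgroup G) := fun _ _ x _ => mem_top _

theorem inv_bot (B : Subgroup A) : Inv B (⊥ : Subgroup G) := fun a _ x hx => by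
  rw [mem_bot] at hx ⊢; rw [hx, smul_one]

theorem Inv.mem_iff {B : Subgroup A} {K : Subgroup G} (h : Inv B K) {a : A} (ha : a ∈ B) (x : G) :
    a • x ∈ K ↔ x ∈ K :=
  ⟨fun hx => by simpa using h a⁻¹ (inv_mem ha) _ hx, h a ha x⟩

theorem inv_inf {B : Subgroup A} {K L : Subgroup G} (hK : Inv B K) (hL : Inv B L) : Inv B (K ⊓ L) :=
  fun a ha x hx => ⟨hK a ha x hx.1, hL a ha x hx.2⟩

theorem inv_normalizer {B : Subgroup A} {K : Subgroup G} (h : Inv B K) :
    Inv B (normalizer (K : Set G)) := by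
  intro a ha x hx
  refine mem_normalizer_iff.2 fun y => ?_
  obtain ⟨y, rfl⟩ : ∃ y', a • y' = y := ⟨a⁻¹ • y, smul_inv_smul a y⟩
  rw [← smul_inv', ← smul_mul', ← smul_mul', h.mem_iff ha, h.mem_iff ha]
  exact mem_normalizer_iff.1 hx y

theorem inv_centralizer {B : Subgroup A} {K : Subgroup G} (h : Inv B K) :
    Inv B (centralizer (K : Set G)) := by
  intro a ha x hx
  rw [mem_centralizer_iff] at hx ⊢
  intro y hy
  have h1 := congrArg (a • ·) (hx (a⁻¹ • y) (h a⁻¹ (inv_mem ha) y hy))
  simpa [smul_mul'] using h1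

theorem inv_fix {F H B : Subgroup A} (hn : Norm F H B) : Inv (F ⊔ H) (fix G B) := by
  intro a ha x hx b hb
  have h1 := hx (a⁻¹ * b * a) (by simpa using hn a⁻¹ (inv_mem ha) b hb)
  calc b • a • x = a • (a⁻¹ * b * a) • x := by
        rw [smul_smul, smul_smul, ← mul_assoc, ← mul_assoc, mul_inv_cancel, one_mul]
    _ = a • x := by rw [h1]

/-- The restricted action on an invariant subgroup. -/
@[reducible] def subAct (K : Subgroup G) (hK : ∀ a : A, ∀ x ∈ K, a • x ∈ K) :
    MulDistribMulAction A K where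
  smul a x := ⟨a • (x : G), hK a x x.2⟩
  one_smul x := Subtype.ext (one_smul A (x : G))
  mul_smul a b x := Subtype.ext (mul_smul a b (x : G))
  smul_mul a x y := Subtype.ext (smul_mul' a (x : G) y)
  smul_one a := Subtype.ext (smul_one a)

/-- The action on the quotient by an invariant normal subgroup. -/
@[reducible] def quotAct (N : Subgroup G) [N.Normal] (hN : ∀ a : A, ∀ x ∈ N, a • x ∈ N) :
    MulDistribMulAction A (G ⧸ N) where
  smul a := QuotientGroup.map N N (MulDistribMulAction.toMonoidHom G a) fun x hx => hN a x hx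
  one_smul x := by
    obtain ⟨g, rfl⟩ := QuotientGroup.mk_surjective x
    show QuotientGroup.mk ((1 : A) • g) = _
    rw [one_smul]
  mul_smul a b x := by
    obtain ⟨g, rfl⟩ := QuotientGroup.mk_surjective x
    show QuotientGroup.mk ((a * b) • g) = QuotientGroup.mk (a • b • g)
    rw [mul_smul]
  smul_mul a x y := map_mul (QuotientGroup.map N N (MulDistribMulAction.toMonoidHom G a) _) x y
  smul_one a := map_one (QuotientGroup.map N N (MulDistribMulAction.toMonoidHom G a) _)

section Finite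

variable [Finite G] [Finite A]

/-- A nilpotent `F` has, for each prime, a Sylow subgroup with a complement, both normalized by
everything normalizing `F`, commuting elementwise. -/
theorem exists_split {F : Subgroup A} (hF : Group.IsNilpotent F) (s : ℕ) [hs : Fact s.Prime] :
    ∃ P Q : Subgroup A, P ≤ F ∧ Q ≤ F ∧ P ⊔ Q = F ∧ IsPGroup s P ∧ ¬ s ∣ Nat.card Q ∧
      (∀ a : A, (∀ f ∈ F, a * f * a⁻¹ ∈ F) → (∀ x ∈ P, a * x * a⁻¹ ∈ P) ∧
        ∀ x ∈ Q, a * x * a⁻¹ ∈ Q) := by
  haveI := hF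
  obtain ⟨S⟩ : Nonempty (Sylow s F) := inferInstance
  have hSn : (S : Subgroup F).Normal :=
    (Group.isNilpotent_of_finite_tfae.out 0 3 rfl rfl).mp hF s hs S
  obtain ⟨Q0, hQ0⟩ := exists_left_complement'_of_coprime S.card_coprime_index
  have hQs : ¬ s ∣ Nat.card Q0 := by
    rw [← Subgroup.IsComplement'.index_eq_card hQ0]
    exact S.not_dvd_index
  have hmemS : ∀ x : F, x ∈ (S : Subgroup F) ↔ ∃ k, orderOf x = s ^ k := by
    intro x
    refine ⟨fun h => ?_, fun ⟨k, hk⟩ => ?_⟩
    · obtain ⟨k, hk⟩ := (IsPGroup.iff_orderOf.1 S.2) ⟨x, h⟩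
      exact ⟨k, by rwa [Subgroup.orderOf_mk] at hk⟩
    · have hp : IsPGroup s (zpowers x) := IsPGroup.of_card (by rw [Nat.card_zpowers, hk])
      have h2 := (hp.to_sup_of_normal_right S.2 (H := zpowers x))
      exact (S.3 h2 le_sup_right).le (mem_sup_left (mem_zpowers x))
  have hmemQ : ∀ x : F, x ∈ Q0 ↔ (orderOf x).Coprime s := by
    intro x
    refine ⟨fun h => ?_, fun h => ?_⟩
    · refine Nat.Coprime.symm ((hs.out.coprime_iff_not_dvd).2 fun hd => hQs (hd.trans ?_))
      simpa using orderOf_dvd_natCard (⟨x, h⟩ : Q0)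
    · obtain ⟨⟨⟨q, hq⟩, ⟨z, hz⟩⟩, hqz⟩ := hQ0.2 x
      simp only at hqz
      have hcom : Commute q z := by
        refine Cfsg.Lib.PGroup.commute_of_coprime_orderOf q z ?_
        obtain ⟨k, hk⟩ := (hmemS z).1 hz
        rw [hk]
        refine Nat.Coprime.pow_right _ ((hs.out.coprime_iff_not_dvd).2 fun hd => hQs (hd.trans ?_)).symm
        simpa using orderOf_dvd_natCard (⟨q, hq⟩ : Q0)
      have hz1 : z = 1 := by
        obtain ⟨k, hk⟩ := (hmemS z).1 hz
        have h1 : orderOf z ∣ orderOf q * orderOf x := by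
          have : z = q⁻¹ * x := by rw [← hqz, inv_mul_cancel_left]
          rw [this]
          refine (Commute.orderOf_mul_dvd_mul_orderOf ?_).trans (by rw [orderOf_inv])
          rw [← hqz]
          exact ((Commute.refl q).mul_right hcom).inv_left
        have h2 : (orderOf z).Coprime (orderOf q * orderOf x) := by
          rw [hk]
          refine Nat.Coprime.pow_left _ (Nat.Coprime.mul_right ((hs.out.coprime_iff_not_dvd).2
            fun hd => hQs (hd.trans ?_)) h.symm)
          simpa using orderOf_dvd_natCard (⟨q, hq⟩ : Q0)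
        exact orderOf_eq_one_iff.1 (h2.eq_one_of_dvd h1)
      rw [← hqz, hz1, mul_one]
      exact hq
  refine ⟨(S : Subgroup F).map F.subtype, Q0.map F.subtype, map_subtype_le _, map_subtype_le _,
    ?_, S.2.map _, ?_, fun a ha => ?_⟩
  · rw [← Subgroup.map_sup, sup_comm, hQ0.sup_eq_top, ← MonoidHom.range_eq_map, Subgroup.range_subtype]
  · rwa [card_map_of_injective F.subtype_injective]
  · have hord : ∀ x : F, orderOf (⟨a * x * a⁻¹, ha x x.2⟩ : F) = orderOf x := by
      intro x
      rw [← Subgroup.orderOf_coe, ← Subgroup.orderOf_coe]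
      exact (MulEquiv.orderOf_eq (MulAut.conj a) (x : A))
    constructor
    · rintro _ ⟨x, hx, rfl⟩
      refine ⟨⟨a * x * a⁻¹, ha x x.2⟩, ?_, rfl⟩
      exact (hmemS _).2 (by rw [hord]; exact (hmemS x).1 hx)
    · rintro _ ⟨x, hx, rfl⟩
      refine ⟨⟨a * x * a⁻¹, ha x x.2⟩, ?_, rfl⟩
      exact (hmemQ _).2 (by rw [hord]; exact (hmemQ x).1 hx)

/-- An invariant finite set of prime power size has a fixed point off a given one. -/
theorem dvd_card_fix {s : ℕ} [Fact s.Prime] {P : Subgroup A} (hP : IsPGroup s P)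
    {K : Subgroup G} (hK : Inv P K) (hdvd : s ∣ Nat.card K) : s ∣ Nat.card ↥(K ⊓ fix G P) := by
  let _ : MulAction P K :=
    { smul := fun a x => ⟨(a : A) • (x : G), hK a a.2 x x.2⟩
      one_smul := fun x => Subtype.ext (one_smul A (x : G))
      mul_smul := fun a b x => Subtype.ext (mul_smul (a : A) b (x : G)) }
  have h := hP.card_modEq_card_fixedPoints K
  have e : Nat.card (MulAction.fixedPoints P K) = Nat.card ↥(K ⊓ fix G P) :=
    Nat.card_congr
      { toFun := fun x => ⟨(x.1 : G), x.1.2, fun b hb => congrArg Subtype.val (x.2 ⟨b, hb⟩)⟩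
        invFun := fun x => ⟨⟨x.1, x.2.1⟩, fun b => Subtype.ext (x.2.2 b b.2)⟩
        left_inv := fun _ => rfl
        right_inv := fun _ => rfl }
  rw [e] at h
  exact Nat.modEq_zero_iff_dvd.1 (h.symm.trans (Nat.modEq_zero_iff_dvd.2 hdvd))

/-- Fixed points of a nilpotent fixed-point-free group pass to quotients by `p`-subgroups. -/
theorem fpf_quotient {F : Subgroup A} (hF : Group.IsNilpotent F) (hfpf : Fpf G F) {p : ℕ}
    [hp : Fact p.Prime] {P : Subgroup G} (hP : IsPGroup p P) (hPF : Inv F P) {g : G}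
    (hg : ∀ f ∈ F, g⁻¹ * f • g ∈ P) : g ∈ P := by
  obtain ⟨S, Q, hSF, hQF, hSQ, hSp, hQp, hn⟩ := exists_split hF p
  -- a fixed point of each prime order part in the coset
  have key : ∀ (n : ℕ) (B : Subgroup A), Nat.card B = n → B ≤ Q →
      ∃ c : G, g⁻¹ * c ∈ P ∧ c ∈ fix G B := by
    intro n
    induction n using Nat.strong_induction_on with
    | _ n ih =>
      intro B hBn hBQ
      by_cases hB1 : Nat.card B = 1
      · refine ⟨g, by simp, fun b hb => ?_⟩
        rw [Subgroup.card_eq_one.1 hB1, mem_bot] at hb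
        rw [hb, one_smul]
      obtain ⟨r, hr, hrB⟩ := Nat.exists_prime_and_dvd hB1
      haveI : Fact r.Prime := ⟨hr⟩
      obtain ⟨R, B', hRB, hB'B, hRB', hRr, hB'r, hBn'⟩ :=
        exists_split (nilpotent_of_le (hBQ.trans hQF) hF) r
      have hlt : Nat.card B' < n := by
        refine lt_of_le_of_ne (hBn ▸ Subgroup.card_le_of_le hB'B) fun e => hB'r ?_
        rw [e, ← hBn]
        exact hrB
      obtain ⟨c, hc, hcB'⟩ := ih _ hlt B' rfl (hB'B.trans hBQ)
      have hrp : r ≠ p := fun e => hQp (e ▸ hrB.trans (card_dvd_of_le hBQ))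
      let Ω := {x : G // g⁻¹ * x ∈ P ∧ x ∈ fix G B'}
      have hRmem : ∀ a ∈ R, ∀ x : G, g⁻¹ * x ∈ P ∧ x ∈ fix G B' →
          g⁻¹ * a • x ∈ P ∧ a • x ∈ fix G B' := by
        intro a ha x hx
        have haF : a ∈ F := hQF (hBQ (hRB ha))
        refine ⟨?_, fun b hb => ?_⟩
        · have : g⁻¹ * a • x = (g⁻¹ * a • g) * a • (g⁻¹ * x) := by
            rw [smul_mul', smul_inv']; group
          rw [this]
          exact mul_mem (hg a haF) (hPF a haF _ hx.1)
        · have hb' : a⁻¹ * b * a ∈ B' := by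
            have := (hBn' a⁻¹ (fun f hf => mul_mem (mul_mem (inv_mem (hRB ha)) hf)
              (inv_mem (inv_mem (hRB ha))))).2 b hb
            simpa using this
          calc b • a • x = a • (a⁻¹ * b * a) • x := by
                rw [smul_smul, smul_smul, ← mul_assoc, ← mul_assoc, mul_inv_cancel, one_mul]
            _ = a • x := by rw [hx.2 _ hb']
      let _ : MulAction R Ω :=
        { smul := fun a x => ⟨(a : A) • x.1, hRmem a a.2 x.1 x.2⟩
          one_smul := fun x => Subtype.ext (one_smul A x.1)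
          mul_smul := fun a b x => Subtype.ext (mul_smul (a : A) b x.1) }
      have hΩ : Nat.card Ω = Nat.card ↥(P ⊓ fix G B') :=
        Nat.card_congr
          { toFun := fun x => ⟨c⁻¹ * x.1, by
              simpa [mul_assoc] using mul_mem (inv_mem hc) x.2.1, (fix G B').mul_mem ((fix G B').inv_mem hcB') x.2.2⟩
            invFun := fun y => ⟨c * y.1, by
              simpa [mul_assoc] using mul_mem hc y.2.1, mul_mem hcB' y.2.2⟩
            left_inv := fun x => Subtype.ext (mul_inv_cancel_left c x.1)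
            right_inv := fun y => Subtype.ext (inv_mul_cancel_left c y.1) }
      have hnd : ¬ r ∣ Nat.card Ω := by
        rw [hΩ]
        obtain ⟨k, hk⟩ := IsPGroup.iff_card.1 (hP.to_le (inf_le_left : P ⊓ fix G B' ≤ P))
        rw [hk]
        exact fun h => hrp ((Nat.prime_dvd_prime_iff_eq hr hp.out).1 (hr.dvd_of_dvd_pow h))
      obtain ⟨⟨x, hx1, hx2⟩, hxR⟩ := hRr.nonempty_fixed_point_of_prime_not_dvd_card Ω hnd
      refine ⟨x, hx1, ?_⟩
      intro b hb
      have hle : B ≤ MulAction.stabilizer A x := by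
        rw [← hRB']
        exact sup_le (fun a ha => congrArg Subtype.val (hxR ⟨a, ha⟩)) (fun a ha => hx2 a ha)
      exact hle hb
  obtain ⟨c, hc, hcQ⟩ := key _ Q rfl le_rfl
  -- the fixed points of `Q` have order prime to `p`
  have hQn : ∀ a ∈ F, ∀ x ∈ Q, a * x * a⁻¹ ∈ Q := fun a ha =>
    (hn a fun f hf => mul_mem (mul_mem ha hf) (inv_mem ha)).2
  have hinvS : Inv S (fix G Q) := fun a ha x hx b hb => by
    have h1 := hx (a⁻¹ * b * a) (by simpa using hQn a⁻¹ (inv_mem (hSF ha)) b hb)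
    calc b • a • x = a • (a⁻¹ * b * a) • x := by
          rw [smul_smul, smul_smul, ← mul_assoc, ← mul_assoc, mul_inv_cancel, one_mul]
      _ = a • x := by rw [h1]
  have hmem : ∀ x : G, (∀ a ∈ S, a • x = x) → (∀ a ∈ Q, a • x = x) → x = 1 := fun x h1 h2 =>
    hfpf x fun f hf => by
      have : F ≤ MulAction.stabilizer A x := hSQ ▸ sup_le h1 h2
      exact this hf
  have hp' : ¬ p ∣ Nat.card ↥(fix G Q) := fun h => by
    have h1 := dvd_card_fix hSp hinvS h
    have : fix G Q ⊓ fix G S = ⊥ := (eq_bot_iff_forall _).2 fun x hx => hmem x hx.2 hx.1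
    rw [this, card_bot] at h1
    exact hp.out.not_dvd_one h1
  have hPQ : ∀ y ∈ P, y ∈ fix G Q → y = 1 := fun y hy hyQ => by
    by_contra h1
    obtain ⟨k, hk⟩ := IsPGroup.iff_orderOf.1 hP ⟨y, hy⟩
    rw [Subgroup.orderOf_mk] at hk
    rcases k with _ | k
    · exact h1 (orderOf_eq_one_iff.1 (by simpa using hk))
    exact hp' ((dvd_pow_self p (Nat.succ_ne_zero k)).trans (hk ▸ by
      simpa using orderOf_dvd_natCard (⟨y, hyQ⟩ : fix G Q)))
  have hc1 : c = 1 := hmem c (fun a ha => by
      have h1 : c⁻¹ * a • c ∈ P := by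
        have : c⁻¹ * a • c = (g⁻¹ * c)⁻¹ * (g⁻¹ * a • g) * a • (g⁻¹ * c) := by
          rw [smul_mul', smul_inv']; group
        rw [this]
        exact mul_mem (mul_mem (inv_mem hc) (hg a (hSF ha))) (hPF a (hSF ha) _ hc)
      exact (inv_mul_eq_one.1 (hPQ _ h1 (mul_mem (inv_mem hcQ) (hinvS a ha c hcQ)))).symm) hcQ
  rw [hc1, mul_one] at hc
  simpa using inv_mem hc

end Finite

end Cfsg.Lib.FrobKernel
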