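import Cfsg.Agent.Lib.FrobKernel.Module
import Cfsg.Agent.Lib.Local.GlaubermanComplement
import Cfsg.Agent.Lib.Thompson.FixedPointFree

/-!
# Invariant Sylow subgroups for odd primes

In a group whose proper invariant subgroups are nilpotent and which has no proper invariant normal
subgroup, some Sylow subgroup for an odd prime is invariant.
-/

set_option autoImplicit false
set_option linter.style.haveILetI false
set_option linter.unusedSectionVars false

namespace Cfsg.Lib.FrobKernel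

open Subgroup

universe v u

variable {A : Type v} [Group A] [Finite A] {G : Type u} [Group G] [Finite G]
  [MulDistribMulAction A G]

theorem orderOf_smul' (a : A) (x : G) : orderOf (a • x) = orderOf x :=
  orderOf_injective (MulDistribMulAction.toMonoidHom G a) (MulAction.injective a) x

/-- The Sylow subgroup of a nilpotent invariant subgroup. -/
theorem exists_sylow_of_nilpotent {K : Subgroup G} (hK : Group.IsNilpotent K) (p : ℕ)
    [hp : Fact p.Prime] :
    ∃ P : Subgroup G, P ≤ K ∧ IsPGroup p P ∧ ¬ p ∣ P.relIndex K ∧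
      (∀ x ∈ K, (∃ k, orderOf x = p ^ k) → x ∈ P) ∧
      (Inv (⊤ : Subgroup A) K → Inv (⊤ : Subgroup A) P) ∧ (K.Normal → P.Normal) := by
  haveI := hK
  obtain ⟨S⟩ : Nonempty (Sylow p K) := inferInstance
  have hSn : (S : Subgroup K).Normal :=
    (Group.isNilpotent_of_finite_tfae.out 0 3 rfl rfl).mp hK p hp S
  have hmem : ∀ x ∈ K, (∃ k, orderOf x = p ^ k) → x ∈ (S : Subgroup K).map K.subtype := by
    intro x hx ⟨k, hk⟩
    have hz : IsPGroup p (zpowers (⟨x, hx⟩ : K)) :=
      IsPGroup.of_card (n := k) (by rw [Nat.card_zpowers, Subgroup.orderOf_mk, hk])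
    have h2 := hz.to_sup_of_normal_right S.2 (H := zpowers (⟨x, hx⟩ : K))
    exact ⟨⟨x, hx⟩, (S.3 h2 le_sup_right).le (mem_sup_left (mem_zpowers _)), rfl⟩
  have hord : ∀ x ∈ (S : Subgroup K).map K.subtype, ∃ k, orderOf x = p ^ k := by
    rintro _ ⟨y, hy, rfl⟩
    obtain ⟨k, hk⟩ := IsPGroup.iff_orderOf.1 S.2 ⟨y, hy⟩
    exact ⟨k, by rw [← hk, Subgroup.orderOf_mk]; exact Subgroup.orderOf_coe y⟩
  refine ⟨(S : Subgroup K).map K.subtype, map_subtype_le _, S.2.map _, ?_, hmem,
    fun hinv a ha x hx => hmem _ (hinv a ha x (map_subtype_le _ hx)) ?_, fun hn => ⟨fun x hx g => ?_⟩⟩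
  · rw [Subgroup.relIndex, subgroupOf, comap_map_eq_self_of_injective K.subtype_injective]
    exact S.not_dvd_index
  · rw [orderOf_smul']; exact hord x hx
  · refine hmem _ (hn.conj_mem x (map_subtype_le _ hx) g) ?_
    obtain ⟨k, hk⟩ := hord x hx
    exact ⟨k, (MulEquiv.orderOf_eq (MulAut.conj g) x).trans hk⟩

/-- Coprime case: exactly one invariant Sylow subgroup. -/
theorem exists_unique_sylow {B : Subgroup A} (hB : Group.IsNilpotent B) (hfpf : Fpf G B)
    (hcop : (Nat.card B).Coprime (Nat.card G)) (r : ℕ) [Fact r.Prime] :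
    ∃ P : Sylow r G, Inv B (P : Subgroup G) ∧
      ∀ Q : Sylow r G, Inv B (Q : Subgroup G) → (Q : Subgroup G) = P := by
  let φ : B →* MulAut G := (MulDistribMulAction.toMulAut A G).comp B.subtype
  haveI : Finite (G ⋊[φ] B) := Finite.of_equiv _ SemidirectProduct.equivProd.symm
  set N := (SemidirectProduct.inl : G →* G ⋊[φ] B).range with hN
  set C := (SemidirectProduct.inr : B →* G ⋊[φ] B).range with hC
  haveI : N.Normal := by
    rw [show N = _ from SemidirectProduct.range_inl_eq_ker_rightHom]; exact MonoidHom.normal_ker _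
  let eN : G ≃* N := MonoidHom.ofInjective SemidirectProduct.inl_injective
  let eC : B ≃* C := MonoidHom.ofInjective SemidirectProduct.inr_injective
  have hsol : Group.IsSolvable C ∨ Group.IsSolvable N := by
    haveI := hB
    haveI : Group.IsSolvable B := IsNilpotent.to_isSolvable
    exact Or.inl (Group.isSolvable_of_surjective (f := eC.toMonoidHom) eC.surjective)
  have hcop' : (Nat.card C).Coprime (Nat.card N) := by
    rwa [← Nat.card_congr eC.toEquiv, ← Nat.card_congr eN.toEquiv]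
  have hiff : ∀ P : Sylow r N, C ≤ normalizer ((P : Subgroup N).map N.subtype : Set _) ↔
      Inv B ((P : Subgroup N).comap eN.toMonoidHom) := by
    intro P
    constructor
    · intro h a ha x hx
      have h1 : (SemidirectProduct.inl x : G ⋊[φ] B) ∈ (P : Subgroup N).map N.subtype :=
        ⟨eN x, hx, rfl⟩
      have h2 := (mem_normalizer_iff.1 (h ⟨⟨a, ha⟩, rfl⟩) _).1 h1
      rw [← map_inv, ← SemidirectProduct.inl_aut] at h2
      obtain ⟨y, hy, e⟩ := h2
      have : y = eN (a • x) := Subtype.ext e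
      show eN (a • x) ∈ (P : Subgroup N)
      exact this ▸ hy
    · intro h
      refine le_normalizer_iff.2 ?_
      rintro _ ⟨b, rfl⟩ _ ⟨y, hy, rfl⟩
      obtain ⟨x, rfl⟩ := eN.surjective y
      refine ⟨eN ((b : A) • x), h b b.2 x hy, ?_⟩
      show SemidirectProduct.inl ((b : A) • x) = SemidirectProduct.inr b * SemidirectProduct.inl x *
        (SemidirectProduct.inr b)⁻¹
      rw [← map_inv, ← SemidirectProduct.inl_aut]
      rfl
  obtain ⟨P, hP⟩ := Coprime.exists_invariant_sylow (A := C) (G := N) le_normalizer_of_normal hcop'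
    hsol r
  have hsurj : ∀ Q : Subgroup N, Q ≤ eN.toMonoidHom.range := fun Q x _ => ⟨eN.symm x, eN.apply_symm_apply x⟩
  refine ⟨P.comapOfInjective eN.toMonoidHom eN.injective (hsurj _), (hiff P).1 hP, fun Q hQ => ?_⟩
  let Q' : Sylow r N := Q.comapOfInjective eN.symm.toMonoidHom eN.symm.injective
    (fun x _ => ⟨eN x, eN.symm_apply_apply x⟩)
  have hQ' : (Q' : Subgroup N).comap eN.toMonoidHom = Q := by
    ext x
    show eN.symm (eN x) ∈ (Q : Subgroup G) ↔ x ∈ (Q : Subgroup G)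
    rw [eN.symm_apply_apply]
  obtain ⟨c, ⟨hcN, hcC⟩, hc⟩ := Coprime.exists_centralizer_conj_sylow (A := C) (G := N)
    le_normalizer_of_normal hcop' hsol P Q' hP ((hiff Q').2 (hQ'.symm ▸ hQ))
  obtain ⟨g, rfl⟩ := hcN
  have hg : g = 1 := hfpf g fun a ha => by
    have h1 := Subgroup.mem_centralizer_iff.1 hcC (SemidirectProduct.inr ⟨a, ha⟩) ⟨⟨a, ha⟩, rfl⟩
    have h2 : (SemidirectProduct.inl (φ ⟨a, ha⟩ g) : G ⋊[φ] B) = SemidirectProduct.inl g := by
      rw [SemidirectProduct.inl_aut, map_inv, h1, mul_inv_cancel_right]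
    exact SemidirectProduct.inl_injective h2
  rw [hg, map_one] at hc
  rw [← hQ']
  have : (Q' : Subgroup N) = P := Subgroup.map_injective N.subtype_injective (by
    rw [hc]; exact Coprime.map_conj_one _)
  show (Q' : Subgroup N).comap eN.toMonoidHom = (P : Subgroup N).comap eN.toMonoidHom
  rw [this]

/-- An invariant Sylow subgroup for an odd prime. -/
theorem exists_odd_sylow {F H : Subgroup A} (hgen : F ⊔ H = ⊤) (hFH : Frob F H) (hfpf : Fpf G F)
    (hproper : ∀ K : Subgroup G, Inv (⊤ : Subgroup A) K → K ≠ ⊤ → Group.IsNilpotent K)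
    (hsimple : ∀ N : Subgroup G, N.Normal → Inv (⊤ : Subgroup A) N → N = ⊥ ∨ N = ⊤)
    (hnp : ∀ p : ℕ, p.Prime → ¬ IsPGroup p G) :
    ∃ (r : ℕ) (_ : Fact r.Prime) (P : Sylow r G), r ≠ 2 ∧ r ∣ Nat.card G ∧
      Inv (⊤ : Subgroup A) (P : Subgroup G) := by
  classical
  haveI : Nontrivial G := by
    by_contra h
    rw [not_nontrivial_iff_subsingleton] at h
    exact hnp 2 Nat.prime_two fun g => ⟨0, by rw [pow_zero, pow_one]; exact Subsingleton.elim _ _⟩
  -- it suffices to find a nontrivial invariant subgroup of odd prime power order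
  suffices ∃ (r : ℕ) (U : Subgroup G), r.Prime ∧ r ≠ 2 ∧ IsPGroup r U ∧ U ≠ ⊥ ∧
      Inv (⊤ : Subgroup A) U by
    obtain ⟨r, U0, hr, hr2, hU0, hU0ne, hU0i⟩ := this
    haveI : Fact r.Prime := ⟨hr⟩
    obtain ⟨U, hU0U, ⟨hU, hUi⟩, hUmax⟩ := (Set.toFinite
      {U : Subgroup G | IsPGroup r U ∧ Inv (⊤ : Subgroup A) U}).exists_le_maximal (a := U0)
      ⟨hU0, hU0i⟩
    have hUne : U ≠ ⊥ := fun e => hU0ne (le_bot_iff.1 (e ▸ hU0U))
    have hUtop : U ≠ ⊤ := fun e => hnp r hr ((e ▸ hU : IsPGroup r (⊤ : Subgroup G)).of_equiv topEquiv)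
    have hN : normalizer (U : Set G) ≠ ⊤ := fun e =>
      (hsimple U (normalizer_eq_top_iff.1 e) hUi).elim hUne hUtop
    obtain ⟨S, hSN, hS, hSidx, hSmem, hSinv, -⟩ :=
      exists_sylow_of_nilpotent (A := A) (hproper _ (inv_normalizer hUi) hN) r
    have hUS : U ≤ S := fun x hx => hSmem x (le_normalizer hx) (by
      obtain ⟨k, hk⟩ := IsPGroup.iff_orderOf.1 hU ⟨x, hx⟩
      exact ⟨k, by rwa [Subgroup.orderOf_mk] at hk⟩)
    have hSU : S = U := le_antisymm (hUmax ⟨hS, hSinv (inv_normalizer hUi)⟩ hUS) hUS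
    rw [hSU] at hSidx
    obtain ⟨n, hn⟩ := IsPGroup.iff_card.1 hU
    have hidx : ¬ r ∣ U.index := fun hd => by
      have h1 := Sylow.card_quotient_normalizer_modEq_card_quotient hn
      rw [Subgroup.relIndex, Subgroup.index] at hSidx
      rw [Subgroup.index] at hd
      exact hSidx (Nat.modEq_zero_iff_dvd.1 (h1.trans (Nat.modEq_zero_iff_dvd.2 hd)))
    refine ⟨r, inferInstance, hU.toSylow hidx, hr2, ?_, ?_⟩
    · rcases n with _ | n
      · exact absurd (Subgroup.card_eq_one.1 (by simpa using hn)) hUne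
      · exact ((dvd_pow_self r n.succ_ne_zero).trans hn.symm.dvd).trans (card_subgroup_dvd_card U)
    · exact hUi
  -- a minimal fixed-point-free part of `F`
  obtain ⟨B, ⟨hBF, hBn, hBfpf⟩, hBmin⟩ := (Set.toFinite
    {B : Subgroup A | B ≤ F ∧ Norm F H B ∧ Fpf G B}).exists_minimal ⟨F, le_rfl, hFH.norm_sup, hfpf⟩
  have hnorm : ∀ {C : Subgroup A}, Norm F H C → Inv (⊤ : Subgroup A) (fix G C) := fun h =>
    hgen ▸ inv_fix h
  have hBnil := nilpotent_of_le hBF hFH.nil
  have hfromK : ∀ {K : Subgroup G}, Inv (⊤ : Subgroup A) K → K ≠ ⊤ → ∀ {r : ℕ}, r.Prime → r ≠ 2 →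
      r ∣ Nat.card K →
      ∃ (r : ℕ) (U : Subgroup G), r.Prime ∧ r ≠ 2 ∧ IsPGroup r U ∧ U ≠ ⊥ ∧
        Inv (⊤ : Subgroup A) U := by
    intro K hKi hK r hr hr2 hrK
    haveI : Fact r.Prime := ⟨hr⟩
    obtain ⟨P, -, hP, -, hPmem, hPinv, -⟩ := exists_sylow_of_nilpotent (A := A) (hproper K hKi hK) r
    obtain ⟨x, hx⟩ := exists_prime_orderOf_dvd_card' (G := K) r hrK
    refine ⟨r, P, hr, hr2, hP, fun e => ?_, hPinv hKi⟩
    have h1 := hPmem x x.2 ⟨1, by rw [pow_one, Subgroup.orderOf_coe, hx]⟩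
    rw [e, mem_bot, OneMemClass.coe_eq_one] at h1
    rw [h1, orderOf_one] at hx
    exact hr.one_lt.ne hx
  by_cases hcop : (Nat.card B).Coprime (Nat.card G)
  · -- coprime: an odd Sylow subgroup invariant under `B`
    obtain ⟨r, hr, hr2, hrG⟩ : ∃ r, r.Prime ∧ r ≠ 2 ∧ r ∣ Nat.card G := by
      by_contra hc
      push Not at hc
      refine hnp 2 Nat.prime_two (IsPGroup.of_card (n := (Nat.card G).primeFactorsList.length)
        (Nat.eq_prime_pow_of_unique_prime_dvd Nat.card_pos.ne' fun {d} hd hdvd => ?_))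
      by_contra h2
      exact hc d hd h2 hdvd
    haveI : Fact r.Prime := ⟨hr⟩
    obtain ⟨P, hP, huniq⟩ := exists_unique_sylow hBnil hBfpf hcop r
    refine ⟨r, P, hr, hr2, P.2, P.ne_bot_of_dvd_card hrG, fun a _ x hx => ?_⟩
    let σ : MulAut G := MulDistribMulAction.toMulAut A G a
    let Q : Sylow r G := P.comapOfInjective σ.symm.toMonoidHom σ.symm.injective
      (fun y _ => ⟨σ y, σ.symm_apply_apply y⟩)
    have hQmem : ∀ y, y ∈ (Q : Subgroup G) ↔ a⁻¹ • y ∈ (P : Subgroup G) := fun _ => Iff.rfl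
    have hQ : Inv B (Q : Subgroup G) := by
      intro b hb y hy
      rw [hQmem] at hy ⊢
      have hab : a⁻¹ * b * a ∈ B := by
        simpa using hBn a⁻¹ (hgen ▸ mem_top _) b hb
      have h1 := hP _ hab _ hy
      rwa [smul_smul, mul_inv_cancel_right, mul_smul] at h1
    rw [← huniq Q hQ, hQmem, inv_smul_smul]
    exact hx
  obtain ⟨s, hs, hsB, hsG⟩ := Nat.Prime.not_coprime_iff_dvd.1 hcop
  haveI : Fact s.Prime := ⟨hs⟩
  obtain ⟨P, Q, hPB, hQB, hPQ, hPs, hQs, hn⟩ := exists_split hBnil s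
  have hPn : Norm F H P := fun a ha => (hn a fun f hf => hBn a ha f hf).1
  have hQn : Norm F H Q := fun a ha => (hn a fun f hf => hBn a ha f hf).2
  have hbot : ∀ {C : Subgroup A}, Norm F H C → C ≤ B → Fpf G C → B ≤ C := fun hC hCB hC' =>
    hBmin ⟨hCB.trans hBF, hC, hC'⟩ hCB
  have hboth : fix G P ⊓ fix G Q = ⊥ := (eq_bot_iff_forall _).2 fun x hx => hBfpf x fun f hf => by
    have : B ≤ MulAction.stabilizer A x := hPQ ▸ sup_le hx.1 hx.2
    exact this hf
  have hPnf : ¬ Fpf G P := fun h => by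
    have h1 := dvd_card_fix hPs (inv_top (G := G) P) (by rwa [card_top])
    rw [top_inf_eq, (eq_bot_iff_forall (fix G P)).2 fun x hx => h x hx, card_bot] at h1
    exact hs.not_dvd_one h1
  have hQnf : ¬ Fpf G Q := fun h => hQs (hsB.trans (card_dvd_of_le (hbot hQn hQB h)))
  have hfull : ∀ {C D : Subgroup A}, fix G C ⊓ fix G D = ⊥ → ¬ Fpf G D → fix G C ≠ ⊤ := by
    intro C D h hD e
    rw [e, top_inf_eq] at h
    exact hD fun x hx => by simpa [h] using (show x ∈ fix G D from hx)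
  have hPtop : fix G P ≠ ⊤ := hfull hboth hQnf
  have hQtop : fix G Q ≠ ⊤ := hfull (inf_comm (fix G P) (fix G Q) ▸ hboth) hPnf
  by_cases hs2 : s = 2
  · obtain ⟨r, hr, hrK⟩ := Nat.exists_prime_and_dvd (n := Nat.card (fix G Q)) fun e => hQnf
      fun x hx => by simpa [Subgroup.card_eq_one.1 e] using (show x ∈ fix G Q from hx)
    refine hfromK (hnorm hQn) hQtop hr (fun e => ?_) hrK
    have hinv : Inv P (fix G Q) := fun a ha x hx =>
      hnorm hQn a (mem_top a) x hx
    have h1 := dvd_card_fix hPs hinv (hs2.trans e.symm ▸ hrK)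
    rw [inf_comm, hboth, card_bot] at h1
    exact hs.not_dvd_one h1
  · have h1 := dvd_card_fix hPs (inv_top (G := G) P) (by rwa [card_top])
    rw [top_inf_eq] at h1
    exact hfromK (hnorm hPn) hPtop hs hs2 h1

end Cfsg.Lib.FrobKernel
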