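import Cfsg.Agent.Lib.FrobKernel.Module
import Mathlib.RingTheory.Coprime.Lemmas
import Mathlib.RingTheory.Int.Basic

/-!
# The key lemma

An element fixed by `H` which centralizes the fixed points of `H` on `V` centralizes `V`.
-/

set_option autoImplicit false
set_option linter.style.haveILetI false
set_option linter.unusedSectionVars false

namespace Cfsg.Lib.FrobKernel

open Subgroup

universe v u w

variable {A : Type v} [Group A] [Finite A]

variable {V : Type u} [CommGroup V] [Finite V] [MulDistribMulAction A V]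

/-- The product over the cosets of the stabilizer. -/
theorem exists_norm {E : Type w} [CommGroup E] [MulDistribMulAction E V] [MulDistribMulAction A E]
    [Finite E]
    (hcompat : ∀ (a : A) (e : E) (v : V), a • e • v = (a • e) • a • v) (B : Subgroup A)
    (K : Subgroup E) (hKmax : ∀ e ∉ K, K ⊔ zpowers e = ⊤)
    (hE : ∀ v : V, (∀ e : E, e • v = v) → v = 1) (w : V) (hwK : ∀ k ∈ K, k • w = w)
    (hwS : ∀ b ∈ B, (∀ e : E, b • e ∈ K ↔ e ∈ K) → b • w = w) :
    ∃ u : V, (∀ b ∈ B, b • u = u) ∧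
      ∀ c : E, (∀ v : V, (∀ b ∈ B, b • v = v) → c • v = v) → c • u = u →
        c • w ^ Nat.card K = w ^ Nat.card K := by
  classical
  let S : Subgroup B :=
    { carrier := {b | ∀ e : E, (b : A) • e ∈ K ↔ e ∈ K}
      mul_mem' := fun {a b} ha hb e => by rw [coe_mul, mul_smul, ha, hb]
      one_mem' := fun e => by rw [OneMemClass.coe_one, one_smul]
      inv_mem' := fun {a} ha e => by
        have := ha (((a⁻¹ : B) : A) • e)
        rw [coe_inv, smul_inv_smul] at this
        exact this.symm }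
  letI := Fintype.ofFinite (B ⧸ S)
  letI := Fintype.ofFinite K
  let ψ : B ⧸ S → V := Quotient.lift (fun b : B => (b : A) • w) fun a b h => by
    have := hwS _ (a⁻¹ * b).2 (QuotientGroup.leftRel_apply.1 h)
    rw [coe_mul, coe_inv, mul_smul, inv_smul_eq_iff] at this
    exact this.symm
  have hψ : ∀ (a b : B), (a : A) • ψ b = ψ (a * b : B) := fun a b => by
    show (a : A) • (b : A) • w = ((a * b : B) : A) • w
    rw [smul_smul]; rfl
  refine ⟨∏ q, ψ q, fun b hb => ?_, fun c _ hcu => ?_⟩
  · rw [smul_finsetProd]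
    refine Fintype.prod_equiv (MulAction.toPerm (⟨b, hb⟩ : B)) _ _ fun q => ?_
    obtain ⟨x, rfl⟩ := QuotientGroup.mk_surjective q
    exact hψ ⟨b, hb⟩ x
  -- apply the norm map of `K`
  let N : V →* V :=
    { toFun := fun v => ∏ k : K, (k : E) • v
      map_one' := by simp
      map_mul' := fun a b => by simp [smul_mul', Finset.prod_mul_distrib] }
  have hNK : ∀ (k : E) (v : V), k ∈ K → k • N v = N v := fun k v hk => by
    show k • ∏ k : K, (k : E) • v = _
    rw [smul_finsetProd]
    exact Fintype.prod_equiv (Equiv.mulLeft (⟨k, hk⟩ : K)) _ _ fun x => by rw [smul_smul]; rfl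
  have hNc : ∀ (e : E) (v : V), e • N v = N (e • v) := fun e v => by
    show e • ∏ k : K, (k : E) • v = ∏ k : K, (k : E) • e • v
    rw [smul_finsetProd]
    refine Finset.prod_congr rfl fun k _ => ?_
    rw [smul_smul, smul_smul, mul_comm]
  have h1 : ∀ q : B ⧸ S, q ≠ ((1 : B) : B ⧸ S) → N (ψ q) = 1 := by
    intro q hq
    obtain ⟨b, rfl⟩ := QuotientGroup.mk_surjective q
    have hb : ¬ ∀ e : E, (b : A) • e ∈ K ↔ e ∈ K := fun h => hq (by
      rw [QuotientGroup.eq, mul_one]
      exact S.inv_mem h)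
    have hex : ∃ k ∈ K, (b : A) • k ∉ K := by
      by_contra hc
      push Not at hc
      refine hb fun e => ⟨fun he => ?_, hc e⟩
      have hbij : Function.Bijective (fun k : K => (⟨(b : A) • (k : E), hc k k.2⟩ : K)) :=
        Finite.injective_iff_bijective.1 fun x y h =>
          Subtype.ext (MulAction.injective (b : A) (congrArg Subtype.val h))
      obtain ⟨k, hk⟩ := hbij.2 ⟨_, he⟩
      rw [← MulAction.injective (b : A) (congrArg Subtype.val hk)]
      exact k.2
    obtain ⟨k, hk, hbk⟩ := hex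
    refine hE _ fun e => ?_
    have hfix : (b : A) • k ∈ MulAction.stabilizer E (N (ψ b)) := by
      show ((b : A) • k) • N ((b : A) • w) = N ((b : A) • w)
      rw [hNc, ← hcompat, hwK k hk]
    have hle : (⊤ : Subgroup E) ≤ MulAction.stabilizer E (N (ψ b)) := by
      rw [← hKmax _ hbk]
      exact sup_le (fun k hk => hNK k _ hk) (zpowers_le.2 hfix)
    exact hle (mem_top e)
  have h2 : N (∏ q, ψ q) = w ^ Nat.card K := by
    rw [map_prod, Fintype.prod_eq_single _ h1]
    show ∏ k : K, (k : E) • ((1 : B) : A) • w = _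
    rw [OneMemClass.coe_one, one_smul, Finset.prod_congr rfl fun (k : K) _ => hwK k k.2,
      Finset.prod_const, Finset.card_univ, Nat.card_eq_fintype_card]
  have h3 := hNc c (∏ q, ψ q)
  rw [hcu, h2] at h3
  exact h3

variable {E : Type w} [CommGroup E] [Finite E] [MulDistribMulAction A E] [MulDistribMulAction E V]

/-- The key lemma. -/
theorem key {F H : Subgroup A} {p q : ℕ} [hp : Fact p.Prime] [hq : Fact q.Prime] (hpq : p ≠ q)
    (hVp : IsPGroup p V) (hEq : ∀ e : E, e ^ q = 1) (hFH : Frob F H) (hfpf : Fpf V F)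
    (hcompat : ∀ (a : A) (e : E) (v : V), a • e • v = (a • e) • a • v)
    (hE : ∀ v : V, (∀ e : E, e • v = v) → v = 1) {c : E} (hcH : ∀ h ∈ H, h • c = c)
    (hc : ∀ v : V, (∀ h ∈ H, h • v = v) → c • v = v) (v : V) : c • v = v := by
  classical
  have hcop : (Nat.card E).Coprime (Nat.card V) := by
    obtain ⟨a, ha⟩ := IsPGroup.iff_card.1 hVp
    obtain ⟨b, hb⟩ := IsPGroup.iff_card.1
      (show IsPGroup q E from fun e => ⟨1, by rw [pow_one]; exact hEq e⟩)
    rw [ha, hb]
    exact Nat.Coprime.pow _ _ ((Nat.coprime_primes hq.out hp.out).2 (Ne.symm hpq))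
  have hmem := Cfsg.Lib.Coprime.mem_iSup_fixedBy (MulDistribMulAction.toMonoidEnd E V) hcop ⊥ (v := v)
    (fun b hb => by rw [mem_bot.1 hb, map_one]; rfl)
  let S : Subgroup V :=
    { carrier := {v | c • v = v}
      mul_mem' := fun {a b} ha hb => by
        show c • (a * b) = a * b
        rw [smul_mul', ha, hb]
      one_mem' := smul_one c
      inv_mem' := fun {a} ha => by
        show c • a⁻¹ = a⁻¹
        rw [smul_inv', ha] }
  refine (iSup₂_le (a := S) ?_) hmem
  rintro K ⟨a, ha⟩ x hx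
  by_cases hcK : c ∈ K
  · exact hx c hcK
  have hEE : ∀ e : E, ∃ k ∈ K, ∃ n : ℤ, k * a ^ n = e := by
    intro e
    have he : e ∈ K ⊔ zpowers a := ha ▸ mem_top e
    obtain ⟨k, hk, y, hy, rfl⟩ := Subgroup.mem_sup.1 he
    obtain ⟨n, rfl⟩ := hy
    exact ⟨k, hk, n, rfl⟩
  have hKmax : ∀ e ∉ K, K ⊔ zpowers e = ⊤ := by
    intro e he
    rw [eq_top_iff, ← ha]
    refine sup_le le_sup_left (zpowers_le.2 ?_)
    obtain ⟨k, hk, n, rfl⟩ := hEE e
    have hnq : IsCoprime n (q : ℤ) := by
      rw [isCoprime_comm]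
      refine ((Int.prime_iff_natAbs_prime.2 (by simpa using hq.out) : Prime (q : ℤ)).irreducible.coprime_iff_not_dvd).2 fun ⟨m, hm⟩ => he ?_
      rw [hm, zpow_mul, zpow_natCast, hEq, one_zpow, mul_one]
      exact hk
    obtain ⟨r, s, hrs⟩ := hnq
    have : a = ((k * a ^ n) ^ r) * (k ^ r)⁻¹ := by
      rw [mul_zpow, mul_comm (k ^ r), mul_inv_cancel_right, ← zpow_mul]
      conv_lhs => rw [← zpow_one a, ← hrs, zpow_add, mul_comm s, zpow_mul, zpow_mul,
        zpow_natCast, hEq, one_zpow, mul_one]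
      rw [mul_comm n r, zpow_mul]
    exact Subgroup.mem_sup.2 ⟨(k ^ r)⁻¹, inv_mem (zpow_mem hk r), _, zpow_mem_zpowers _ r, by
      rw [mul_comm]; exact this.symm⟩
  let W : Subgroup V := Cfsg.Lib.Coprime.fixedBy (MulDistribMulAction.toMonoidEnd E V) K
  have hWmem : ∀ y : V, y ∈ W ↔ ∀ k ∈ K, k • y = y := fun _ => Iff.rfl
  by_contra hcx
  have hWne : Nontrivial W := ⟨⟨⟨x, hx⟩, 1, fun e => hcx (by
    have e1 : x = 1 := congrArg Subtype.val e
    show c • x = x
    rw [e1, smul_one])⟩⟩
  let Bst : Subgroup A :=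
    { carrier := {b | ∀ e : E, b • e ∈ K ↔ e ∈ K}
      mul_mem' := fun {a b} ha hb e => by rw [mul_smul, ha, hb]
      one_mem' := fun e => by rw [one_smul]
      inv_mem' := fun {a} ha e => by
        have := ha (a⁻¹ • e)
        rw [smul_inv_smul] at this
        exact this.symm }
  have hBW : ∀ b ∈ Bst, ∀ y ∈ W, b • y ∈ W := by
    intro b hb y hy k hk
    show k • b • y = b • y
    have e1 : (b⁻¹ • k) • y = y := hy _ ((Bst.inv_mem hb k).2 hk)
    conv_rhs => rw [← e1, hcompat, smul_inv_smul]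
  letI : MulDistribMulAction Bst W :=
    { smul := fun a x => ⟨(a : A) • (x : V), hBW a a.2 x x.2⟩
      one_smul := fun x => Subtype.ext (one_smul A (x : V))
      mul_smul := fun a b x => Subtype.ext (mul_smul (a : A) b (x : V))
      smul_mul := fun a x y => Subtype.ext (smul_mul' (a : A) (x : V) y)
      smul_one := fun a => Subtype.ext (smul_one (a : A)) }
  set F1 : Subgroup Bst := F.comap Bst.subtype with hF1
  set H1 : Subgroup Bst := H.comap Bst.subtype with hH1
  have hcard : ∀ L : Subgroup A, Nat.card (L.comap Bst.subtype) ∣ Nat.card L := fun L =>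
    card_comap_dvd_of_injective L _ Bst.subtype_injective
  have hFH1 : Frob F1 H1 := by
    refine ⟨fun h hh f hf => hFH.norm _ hh _ hf,
      (hFH.cop.coprime_dvd_left (hcard F)).coprime_dvd_right (hcard H),
      fun h hh h1 f hf e => Subtype.ext (hFH.fpf _ hh (fun e1 => h1 (Subtype.ext e1)) _ hf
        (congrArg Subtype.val e)), ?_⟩
    haveI := hFH.nil
    let φ : F1 →* F := (Bst.subtype.comp F1.subtype).codRestrict F fun x => x.2
    have hφ : Function.Injective φ := fun x y e => Subtype.ext (Subtype.ext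
      (congrArg Subtype.val e :))
    exact Subgroup.isNilpotent_of_ker_le_center φ (((MonoidHom.ker_eq_bot_iff _).2 hφ).trans_le bot_le)
  have hK0 : ¬ p ∣ Nat.card K := fun h =>
    hp.out.one_lt.ne' (Nat.eq_one_of_dvd_coprimes hcop (h.trans (card_subgroup_dvd_card K)) (by
      obtain ⟨a, ha⟩ := IsPGroup.iff_card.1 hVp
      rw [ha]
      refine dvd_pow_self p fun h0 => hcx ?_
      rw [h0, pow_zero] at ha
      haveI := (Nat.card_eq_one_iff_unique.1 ha).1
      exact Subsingleton.elim _ _))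
  have hroot : ∀ y : V, y ^ Nat.card K = 1 → y = 1 := by
    intro y hy
    obtain ⟨n, hn⟩ := IsPGroup.iff_orderOf.1 hVp y
    rcases n with _ | n
    · exact orderOf_eq_one_iff.1 (by simpa using hn)
    · exact absurd ((dvd_pow_self p n.succ_ne_zero).trans (hn ▸ orderOf_dvd_of_pow_eq_one hy)) hK0
  have hfpfW : Fpf W F1 := by
    intro y hy
    obtain ⟨u, hu, hu'⟩ := exists_norm hcompat F K hKmax hE (y : V) y.2
      (fun b hb hbK => congrArg Subtype.val (hy ⟨b, hbK⟩ hb))
    have h1 : u = 1 := hfpf u hu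
    refine Subtype.ext (hroot _ (hE _ fun e => ?_))
    refine hu' e (fun v hv => ?_) (by rw [h1, smul_one])
    rw [hfpf v hv, smul_one]
  obtain ⟨y, hyH, hy1⟩ := exists_fixed hFH1 hfpfW
  obtain ⟨u, hu, hu'⟩ := exists_norm hcompat H K hKmax hE (y : V) y.2
    (fun b hb hbK => congrArg Subtype.val (hyH ⟨b, hbK⟩ hb))
  have h1 : c • (y : V) ^ Nat.card K = (y : V) ^ Nat.card K := hu' c hc (hc u hu)
  refine hy1 (Subtype.ext (hroot _ (hE _ fun e => ?_)))
  have hle : (⊤ : Subgroup E) ≤ MulAction.stabilizer E ((y : V) ^ Nat.card K) := by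
    rw [← hKmax c hcK]
    exact sup_le (fun k hk => by
      show k • (y : V) ^ Nat.card K = _
      have e1 : k • (y : V) = y := y.2 k hk
      rw [smul_pow', e1]) (zpowers_le.2 h1)
  exact hle (mem_top e)

end Cfsg.Lib.FrobKernel
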