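import Cfsg.Agent.Lib.FrobKernel.Invariant
import Cfsg.Agent.Lib.FrobKernel.Key
import Mathlib.GroupTheory.GroupAction.ConjAct

/-!
# Nilpotency from nilpotent fixed points of the complement

If a Frobenius group `FH` acts on a finite group with `F` fixing only the identity and `H` having
nilpotent fixed points, the group is nilpotent (Khukhro, Makarenko, Shumyatsky); the proof does not
use solvability results.
-/

set_option autoImplicit false
set_option linter.style.haveILetI false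
set_option linter.unusedSectionVars false

namespace Cfsg.Lib.FrobKernel

open Subgroup

universe v u

variable {A : Type v} [Group A] [Finite A] {F H : Subgroup A}
  {G : Type u} [Group G] [Finite G] [MulDistribMulAction A G]

variable (A F H G) in
/-- The statement at the groups of smaller order. -/
def Below : Prop :=
  ∀ (K : Type u) [Group K] [Finite K] [MulDistribMulAction A K], Nat.card K < Nat.card G →
    Fpf K F → Group.IsNilpotent ↥(fix K H) → Group.IsNilpotent K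

theorem nilpotent_proper (hfpf : Fpf G F) (hC : Group.IsNilpotent ↥(fix G H)) (hIH : Below A F H G)
    (K : Subgroup G) (hK : Inv (⊤ : Subgroup A) K) (hKtop : K ≠ ⊤) : Group.IsNilpotent K := by
  letI := subAct K fun a x hx => hK a (mem_top a) x hx
  refine hIH K ?_ (fun x hx => Subtype.ext (hfpf x fun f hf => congrArg Subtype.val (hx f hf))) ?_
  · exact lt_of_le_of_ne (card_le_card_group K) fun e => hKtop (eq_top_of_card_eq K e)
  · let φ : fix K H →* fix G H :=
      { toFun := fun x => ⟨((x : K) : G), fun b hb => congrArg Subtype.val (x.2 b hb)⟩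
        map_one' := rfl
        map_mul' := fun _ _ => rfl }
    have hφ : Function.Injective φ := fun x y e =>
      Subtype.ext (Subtype.ext (congrArg Subtype.val e :))
    exact Subgroup.isNilpotent_of_ker_le_center φ (((MonoidHom.ker_eq_bot_iff _).2 hφ).trans_le bot_le)

theorem lift_fixed (hFH : Frob F H) (hfpf : Fpf G F) {V : Subgroup G} [V.Normal]
    (hV : Inv (⊤ : Subgroup A) V) (hVc : IsMulCommutative V) {g : G}
    (hg : ∀ h ∈ H, g⁻¹ * h • g ∈ V) : ∃ g' ∈ fix G H, g⁻¹ * g' ∈ V := by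
  letI : CommGroup V := { (inferInstance : Group V) with mul_comm := fun a b => hVc.1.comm a b }
  letI : MulDistribMulAction A V := subAct V fun a x hx => hV a (mem_top a) x hx
  let z : H → V := fun h => ⟨g⁻¹ * (h : A) • g, hg h h.2⟩
  obtain ⟨u, hu⟩ := exists_principal hFH
    (fun x hx => Subtype.ext (hfpf x fun f hf => congrArg Subtype.val (hx f hf))) z
    (fun a b => Subtype.ext (by
      show g⁻¹ * ((a * b : H) : A) • g = g⁻¹ * (a : A) • g * (a : A) • (g⁻¹ * (b : A) • g)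
      rw [smul_mul', smul_smul, smul_inv', Subgroup.coe_mul]
      group))
  refine ⟨g * (u : G)⁻¹, fun h hh => ?_, by simp⟩
  have h1 : h • (u : G) = u * (g⁻¹ * h • g) := congrArg Subtype.val (hu ⟨h, hh⟩)
  rw [smul_mul', smul_inv', h1]
  group

theorem nilpotent_quotient (hFH : Frob F H) (hfpf : Fpf G F) (hC : Group.IsNilpotent ↥(fix G H))
    (hIH : Below A F H G) {p : ℕ} [Fact p.Prime] {V : Subgroup G} [V.Normal]
    (hV : Inv (⊤ : Subgroup A) V) (hVp : IsPGroup p V) (hVc : IsMulCommutative V) (hVne : V ≠ ⊥) :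
    Group.IsNilpotent (G ⧸ V) := by
  letI := quotAct V fun a x hx => hV a (mem_top a) x hx
  refine hIH (G ⧸ V) ?_ ?_ ?_
  · rw [← Subgroup.index, ← Subgroup.card_mul_index V]
    have h2 : 1 < Nat.card V := (one_lt_card_iff_ne_bot V).2 hVne
    calc V.index = 1 * V.index := (one_mul _).symm
      _ < Nat.card V * V.index := Nat.mul_lt_mul_of_pos_right h2
          (Nat.pos_of_ne_zero FiniteIndex.index_ne_zero)
  · intro x hx
    obtain ⟨g, rfl⟩ := QuotientGroup.mk_surjective x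
    exact (QuotientGroup.eq_one_iff g).2 (fpf_quotient hFH.nil hfpf hVp
      (fun a _ y hy => hV a (mem_top a) y hy) fun f hf => QuotientGroup.eq.1 (hx f hf).symm)
  · let φ : fix G H →* fix (G ⧸ V) H :=
      { toFun := fun x => ⟨QuotientGroup.mk (x : G), fun b hb =>
          congrArg QuotientGroup.mk (x.2 b hb)⟩
        map_one' := rfl
        map_mul' := fun _ _ => rfl }
    haveI := hC
    refine Group.nilpotent_of_surjective φ fun ⟨x, hx⟩ => ?_
    obtain ⟨g, rfl⟩ := QuotientGroup.mk_surjective x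
    obtain ⟨g', hg', hgg'⟩ := lift_fixed hFH hfpf hV hVc (g := g)
      fun h hh => QuotientGroup.eq.1 (hx h hh).symm
    exact ⟨⟨g', hg'⟩, Subtype.ext (QuotientGroup.eq.2 hgg').symm⟩

/-- A minimal normal invariant `p`-subgroup. -/
theorem exists_minimal_abelian {p : ℕ} [hp : Fact p.Prime] {U : Subgroup G} (hUn : U.Normal)
    (hUi : Inv (⊤ : Subgroup A) U) (hUp : IsPGroup p U) (hUne : U ≠ ⊥) :
    ∃ V : Subgroup G, V.Normal ∧ Inv (⊤ : Subgroup A) V ∧ IsPGroup p V ∧ V ≠ ⊥ ∧ V ≤ U ∧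
      IsMulCommutative V ∧ ∀ W : Subgroup G, W.Normal → Inv (⊤ : Subgroup A) W → W ≤ V →
        W = ⊥ ∨ W = V := by
  obtain ⟨V, ⟨hVn, hVi, hVne, hVU⟩, hmin⟩ := (Set.toFinite {V : Subgroup G | V.Normal ∧
    Inv (⊤ : Subgroup A) V ∧ V ≠ ⊥ ∧ V ≤ U}).exists_minimal ⟨U, hUn, hUi, hUne, le_rfl⟩
  have hVp : IsPGroup p V := hUp.to_le hVU
  have hmin' : ∀ W : Subgroup G, W.Normal → Inv (⊤ : Subgroup A) W → W ≤ V → W = ⊥ ∨ W = V := by
    intro W hW hWi hWV
    by_cases hW1 : W = ⊥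
    · exact Or.inl hW1
    · exact Or.inr (le_antisymm hWV (hmin ⟨hW, hWi, hW1, hWV.trans hVU⟩ hWV))
  refine ⟨V, hVn, hVi, hVp, hVne, hVU, ?_, hmin'⟩
  -- the centre of `V`, in `G`
  have hZi : Inv (⊤ : Subgroup A) (V ⊓ centralizer (V : Set G)) := inv_inf hVi (inv_centralizer hVi)
  haveI := hVn
  have hZn : (V ⊓ centralizer (V : Set G)).Normal := inferInstance
  rcases hmin' _ hZn hZi inf_le_left with h | h
  · exfalso
    haveI : Nontrivial V := V.nontrivial_iff_ne_bot.2 hVne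
    have hc := (hVp.center_nontrivial)
    obtain ⟨⟨x, hx⟩, hx1⟩ := exists_ne (1 : center V)
    have : (x : G) ∈ V ⊓ centralizer (V : Set G) := ⟨x.2, fun y hy =>
      congrArg Subtype.val (Subgroup.mem_center_iff.1 hx ⟨y, hy⟩)⟩
    rw [h, mem_bot, OneMemClass.coe_eq_one] at this
    exact hx1 (Subtype.ext this)
  · refine ⟨⟨fun a b => Subtype.ext ?_⟩⟩
    have hb : (b : G) ∈ V ⊓ centralizer (V : Set G) := by rw [h]; exact b.2
    exact hb.2 a a.2

theorem nilpotent_of_minimal (hFH : Frob F H) (hfpf : Fpf G F) (hC : Group.IsNilpotent ↥(fix G H))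
    (hIH : Below A F H G) {p : ℕ} [hp : Fact p.Prime] {V : Subgroup G} [V.Normal]
    (hVi : Inv (⊤ : Subgroup A) V) (hVp : IsPGroup p V) (hVne : V ≠ ⊥) (hVc : IsMulCommutative V)
    (hmin : ∀ W : Subgroup G, W.Normal → Inv (⊤ : Subgroup A) W → W ≤ V → W = ⊥ ∨ W = V)
    (hnp : ∀ p : ℕ, p.Prime → ¬ IsPGroup p G) : Group.IsNilpotent G := by
  classical
  haveI hQnil := nilpotent_quotient hFH hfpf hC hIH hVi hVp hVc hVne
  set D := centralizer (V : Set G) with hDdef
  have hDi : Inv (⊤ : Subgroup A) D := inv_centralizer hVi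
  have hVD : V ≤ D := fun x hx y hy => congrArg Subtype.val (hVc.1.comm ⟨y, hy⟩ ⟨x, hx⟩)
  by_cases hD : D = ⊤
  · refine Subgroup.isNilpotent_of_ker_le_center (QuotientGroup.mk' V) ?_
    rw [QuotientGroup.ker_mk']
    intro x hx
    refine Subgroup.mem_center_iff.2 fun y => ?_
    exact ((hD ▸ mem_top y : y ∈ D) x hx).symm
  -- every prime to `p` part of `D` is trivial
  haveI hDnil := nilpotent_proper hfpf hC hIH D hDi hD
  by_cases hDp : ∃ q, q.Prime ∧ q ≠ p ∧ q ∣ Nat.card D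
  · obtain ⟨q, hq, hqp, hqD⟩ := hDp
    haveI : Fact q.Prime := ⟨hq⟩
    obtain ⟨S, hSD, hS, -, hSmem, hSinv, hSn⟩ := exists_sylow_of_nilpotent (A := A) hDnil q
    have hSne : S ≠ ⊥ := fun e => by
      obtain ⟨x, hx⟩ := exists_prime_orderOf_dvd_card' (G := D) q hqD
      have h1 := hSmem x x.2 ⟨1, by rw [pow_one, Subgroup.orderOf_coe, hx]⟩
      rw [e, mem_bot, OneMemClass.coe_eq_one] at h1
      rw [h1, orderOf_one] at hx
      exact hq.one_lt.ne hx
    obtain ⟨V', hV'n, hV'i, hV'q, hV'ne, -, hV'c, -⟩ :=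
      exists_minimal_abelian (hSn inferInstance) (hSinv hDi) hS hSne
    haveI := hV'n
    haveI := nilpotent_quotient hFH hfpf hC hIH hV'i hV'q hV'c hV'ne
    refine Subgroup.isNilpotent_of_ker_le_center
      ((QuotientGroup.mk' V).prod (QuotientGroup.mk' V')) (le_trans (le_of_eq ?_) bot_le)
    rw [MonoidHom.ker_prod, QuotientGroup.ker_mk', QuotientGroup.ker_mk']
    exact disjoint_iff.1 (IsPGroup.disjoint_of_ne p q hqp.symm V V' hVp hV'q)
  push Not at hDp
  obtain ⟨q, hq, hqp, hqG⟩ : ∃ q, q.Prime ∧ q ≠ p ∧ q ∣ Nat.card G := by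
    by_contra hc
    push Not at hc
    refine hnp p hp.out (IsPGroup.of_card (n := (Nat.card G).primeFactorsList.length)
      (Nat.eq_prime_pow_of_unique_prime_dvd Nat.card_pos.ne' fun {d} hd hdvd => ?_))
    by_contra h2
    exact hc d hd h2 hdvd
  haveI : Fact q.Prime := ⟨hq⟩
  haveI : Fact p.Prime := hp
  have hqD : ¬ q ∣ Nat.card D := hDp q hq hqp
  -- the Sylow subgroup of the quotient for `q`
  letI := quotAct V fun a x hx => hVi a (mem_top a) x hx
  obtain ⟨Sq, -, hSq, hSqidx, hSqmem, hSqinv, hSqn⟩ :=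
    exists_sylow_of_nilpotent (A := A) (K := (⊤ : Subgroup (G ⧸ V)))
      (Group.nilpotent_of_mulEquiv topEquiv.symm) q
  haveI := hSqn inferInstance
  set W := Sq.comap (QuotientGroup.mk' V) with hWdef
  have hWi : Inv (⊤ : Subgroup A) W := fun a _ x hx =>
    hSqinv (inv_top _) a (mem_top a) _ hx
  by_cases hW : W = ⊤
  swap
  · exfalso
    haveI := nilpotent_proper hfpf hC hIH W hWi hW
    obtain ⟨x, hx⟩ := exists_prime_orderOf_dvd_card' (G := G) q hqG
    have hxW : x ∈ W := by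
      refine hSqmem _ (mem_top _) ?_
      obtain ⟨k, -, hk⟩ := (Nat.dvd_prime_pow hq).1
        ((orderOf_map_dvd (QuotientGroup.mk' V) x).trans (by rw [hx, pow_one] : orderOf x ∣ q ^ 1))
      exact ⟨k, hk⟩
    refine hqD ((hx ▸ ?_ : q ∣ Nat.card D))
    have hxD : x ∈ D := fun y hy => by
      have hyW : y ∈ W := by
        show QuotientGroup.mk' V y ∈ Sq
        rw [show QuotientGroup.mk' V y = 1 from (QuotientGroup.eq_one_iff y).2 hy]
        exact one_mem _
      refine congrArg Subtype.val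
        (Cfsg.Lib.PGroup.commute_of_coprime_orderOf (⟨y, hyW⟩ : W) ⟨x, hxW⟩ ?_).eq
      rw [Subgroup.orderOf_mk, Subgroup.orderOf_mk, hx]
      obtain ⟨k, hk⟩ := IsPGroup.iff_orderOf.1 hVp ⟨y, hy⟩
      rw [Subgroup.orderOf_mk] at hk
      rw [hk]
      exact Nat.Coprime.pow_left _ ((Nat.coprime_primes hp.out hq).2 hqp.symm)
    simpa using orderOf_dvd_natCard (⟨x, hxD⟩ : D)
  have hSqtop : Sq = ⊤ := by
    rw [← map_comap_eq_self_of_surjective (QuotientGroup.mk'_surjective V) Sq, ← hWdef, hW,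
      map_top_of_surjective _ (QuotientGroup.mk'_surjective V)]
  have hQq : IsPGroup q (G ⧸ V) := (hSqtop ▸ hSq).of_equiv topEquiv
  have hDV : D = V := by
    refine le_antisymm (fun x hx => ?_) hVD
    rw [← QuotientGroup.eq_one_iff (N := V), ← orderOf_eq_one_iff]
    obtain ⟨k, hk⟩ := IsPGroup.iff_orderOf.1 hQq (x : G ⧸ V)
    rcases k with _ | k
    · rw [hk, pow_zero]
    · refine absurd ((dvd_pow_self q k.succ_ne_zero).trans (hk ▸ ?_)) hqD
      exact (orderOf_map_dvd (QuotientGroup.mk' V) x).trans (by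
        simpa using orderOf_dvd_natCard (⟨x, hx⟩ : D))
  haveI : Nontrivial (G ⧸ V) := QuotientGroup.nontrivial_iff.2 fun e => hD (by rw [hDV, e])
  -- an elementary abelian central subgroup of the quotient
  haveI := hQq.center_nontrivial
  let E : Subgroup (G ⧸ V) :=
    { carrier := {x | x ∈ center (G ⧸ V) ∧ x ^ q = 1}
      mul_mem' := fun {a b} ha hb => ⟨mul_mem ha.1 hb.1, by
        rw [Commute.mul_pow (Subgroup.mem_center_iff.1 hb.1 a), ha.2, hb.2, one_mul]⟩
      one_mem' := ⟨one_mem _, one_pow q⟩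
      inv_mem' := fun {a} ha => ⟨inv_mem ha.1, by rw [inv_pow, ha.2, inv_one]⟩ }
  letI : CommGroup E :=
    { (inferInstance : Group E) with
      mul_comm := fun a b => Subtype.ext (Subgroup.mem_center_iff.1 b.2.1 a) }
  have hEinv : ∀ a : A, ∀ x ∈ E, a • x ∈ E := fun a x hx => ⟨Subgroup.mem_center_iff.2 fun y => by
      obtain ⟨y, rfl⟩ : ∃ y', a • y' = y := ⟨a⁻¹ • y, smul_inv_smul a y⟩
      rw [← smul_mul', ← smul_mul', Subgroup.mem_center_iff.1 hx.1 y],
    by rw [← smul_pow', hx.2, smul_one]⟩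
  letI : MulDistribMulAction A E := subAct E hEinv
  letI : CommGroup V := { (inferInstance : Group V) with mul_comm := fun a b => hVc.1.comm a b }
  letI : MulDistribMulAction A V := subAct V fun a x hx => hVi a (mem_top a) x hx
  let θ : G ⧸ V →* MulAut V := QuotientGroup.lift V (MulAut.conjNormal (H := V)) fun x hx => by
    rw [MonoidHom.mem_ker]
    refine MulEquiv.ext fun y => Subtype.ext ?_
    rw [MulAut.conjNormal_apply, MulAut.one_apply, ← hVD hx y y.2, mul_inv_cancel_right]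
  letI : MulDistribMulAction E V := MulDistribMulAction.compHom V (θ.comp E.subtype)
  have hθ : ∀ (g : G) (hg : (g : G ⧸ V) ∈ E) (y : V),
      (((⟨(g : G ⧸ V), hg⟩ : E) • y : V) : G) = g * y * g⁻¹ := fun g hg y =>
    MulAut.conjNormal_apply g y
  have hcompat : ∀ (a : A) (e : E) (y : V), a • e • y = (a • e) • a • y := by
    rintro a ⟨e, he⟩ y
    obtain ⟨g, rfl⟩ := QuotientGroup.mk_surjective e
    refine Subtype.ext ?_
    have he' : ((a • g : G) : G ⧸ V) ∈ E := hEinv a _ he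
    show a • (((⟨(g : G ⧸ V), he⟩ : E) • y : V) : G) =
      (((⟨((a • g : G) : G ⧸ V), he'⟩ : E) • (a • y : V) : V) : G)
    rw [hθ, hθ, smul_mul', smul_mul', smul_inv']
    rfl
  have hEfix : ∀ y : V, (∀ e : E, e • y = y) → y = 1 := by
    let W0 : Subgroup G :=
      { carrier := {y | ∃ hy : y ∈ V, ∀ e : E, e • (⟨y, hy⟩ : V) = ⟨y, hy⟩}
        mul_mem' := fun {a b} ⟨ha, ha'⟩ ⟨hb, hb'⟩ => ⟨mul_mem ha hb, fun e => by
          show e • ((⟨a, ha⟩ : V) * ⟨b, hb⟩) = (⟨a, ha⟩ : V) * ⟨b, hb⟩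
          rw [smul_mul', ha', hb']⟩
        one_mem' := ⟨one_mem _, fun e => smul_one e⟩
        inv_mem' := fun {a} ⟨ha, ha'⟩ => ⟨inv_mem ha, fun e => by
          show e • (⟨a, ha⟩ : V)⁻¹ = (⟨a, ha⟩ : V)⁻¹
          rw [smul_inv', ha']⟩ }
    have hW0n : W0.Normal := ⟨fun y ⟨hy, hy'⟩ g => ⟨Normal.conj_mem inferInstance y hy g, fun e => by
      obtain ⟨e, he⟩ := e
      obtain ⟨t, rfl⟩ := QuotientGroup.mk_surjective e
      refine Subtype.ext ?_
      rw [hθ]
      show t * (g * y * g⁻¹) * t⁻¹ = g * y * g⁻¹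
      have hgt : t⁻¹ * (g⁻¹ * t * g) ∈ V := QuotientGroup.eq.1 (by
        show (t : G ⧸ V) = ((g⁻¹ * t * g : G) : G ⧸ V)
        rw [QuotientGroup.mk_mul, QuotientGroup.mk_mul, QuotientGroup.mk_inv,
          mul_assoc, ← Subgroup.mem_center_iff.1 he.1 (g : G ⧸ V), inv_mul_cancel_left])
      have h1 : t * y * t⁻¹ = y := (hθ t he ⟨y, hy⟩).symm.trans (congrArg Subtype.val (hy' ⟨_, he⟩))
      have h2 : (t⁻¹ * (g⁻¹ * t * g)) * y = y * (t⁻¹ * (g⁻¹ * t * g)) := (hVD hgt y hy).symm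
      calc t * (g * y * g⁻¹) * t⁻¹
          = g * (t * ((t⁻¹ * (g⁻¹ * t * g)) * y * (t⁻¹ * (g⁻¹ * t * g))⁻¹) * t⁻¹) * g⁻¹ := by group
        _ = _ := by rw [h2, mul_inv_cancel_right, h1]⟩⟩
    have hW0i : Inv (⊤ : Subgroup A) W0 := by
      rintro a - y ⟨hy, hy'⟩
      refine ⟨hVi a (mem_top a) y hy, fun e => ?_⟩
      show e • (a • (⟨y, hy⟩ : V)) = a • (⟨y, hy⟩ : V)
      conv_rhs => rw [← hy' (a⁻¹ • e), hcompat, smul_inv_smul]
    rcases hmin W0 hW0n hW0i (fun y ⟨hy, _⟩ => hy) with h | h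
    · intro y hy
      have : (y : G) ∈ W0 := ⟨y.2, hy⟩
      rw [h, mem_bot] at this
      exact Subtype.ext this
    · exfalso
      obtain ⟨⟨e, he⟩, he1⟩ := exists_ne (1 : center (G ⧸ V))
      obtain ⟨k, hk⟩ := IsPGroup.iff_orderOf.1 hQq e
      rcases k with _ | k
      · exact he1 (Subtype.ext (orderOf_eq_one_iff.1 (by rw [hk, pow_zero])))
      have hpow : e ^ q ^ k ∈ E := ⟨pow_mem he _, by
        rw [← pow_mul, ← pow_succ, ← hk, pow_orderOf_eq_one]⟩
      obtain ⟨t, ht⟩ := QuotientGroup.mk_surjective (e ^ q ^ k)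
      have htD : t ∈ D := fun y hy => by
        have hy0 : y ∈ W0 := by rw [h]; exact hy
        obtain ⟨_, hy'⟩ := hy0
        have h1 := (hθ t (ht ▸ hpow) ⟨y, hy⟩).symm.trans (congrArg Subtype.val (hy' _))
        exact (mul_inv_eq_iff_eq_mul.1 h1).symm
      rw [hDV] at htD
      rw [← QuotientGroup.eq_one_iff] at htD
      rw [ht] at htD
      have h3 : orderOf e ∣ q ^ k := orderOf_dvd_of_pow_eq_one htD
      rw [hk] at h3
      exact absurd (Nat.le_of_dvd (pow_pos hq.pos _) h3)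
        (not_le.2 (Nat.pow_lt_pow_right hq.one_lt k.lt_succ_self))
  have hfpfE : Fpf E F := by
    rintro ⟨e, he⟩ hx
    obtain ⟨g, rfl⟩ := QuotientGroup.mk_surjective e
    exact Subtype.ext ((QuotientGroup.eq_one_iff g).2 (fpf_quotient hFH.nil hfpf hVp
      (fun a _ y hy => hVi a (mem_top a) y hy)
      fun f hf => QuotientGroup.eq.1 (congrArg Subtype.val (hx f hf)).symm))
  haveI : Nontrivial E := by
    by_contra hE
    rw [not_nontrivial_iff_subsingleton] at hE
    exact hVne ((eq_bot_iff_forall _).2 fun y hy => congrArg Subtype.val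
      (hEfix ⟨y, hy⟩ fun e => by rw [Subsingleton.elim e 1, one_smul]))
  obtain ⟨⟨c, hc⟩, hcH, hc1⟩ := exists_fixed (V := E) hFH hfpfE
  obtain ⟨g, rfl⟩ := QuotientGroup.mk_surjective c
  obtain ⟨g', hg', hgg'⟩ := lift_fixed hFH hfpf hVi hVc (g := g)
    fun h hh => QuotientGroup.eq.1 (congrArg Subtype.val (hcH h hh)).symm
  have hgg : (g : G ⧸ V) = g' := QuotientGroup.eq.2 hgg'
  -- `c` centralizes the fixed points of `H` on `V`
  have hkey := key (q := q) (Ne.symm hqp) hVp (fun e => Subtype.ext e.2.2) hFH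
    (fun x hx => Subtype.ext (hfpf x fun f hf => congrArg Subtype.val (hx f hf))) hcompat hEfix
    (c := ⟨(g : G ⧸ V), hc⟩) hcH (fun y hy => ?_)
  · exfalso
    refine hc1 (Subtype.ext ((QuotientGroup.eq_one_iff g).2 ?_))
    rw [← hDV]
    intro y hy
    exact (mul_inv_eq_iff_eq_mul.1 ((hθ g hc ⟨y, hy⟩).symm.trans
      (congrArg Subtype.val (hkey ⟨y, hy⟩)))).symm
  · refine Subtype.ext ?_
    have hc' : (g' : G ⧸ V) ∈ E := hgg ▸ hc
    rw [show (⟨(g : G ⧸ V), hc⟩ : E) = ⟨(g' : G ⧸ V), hc'⟩ from Subtype.ext hgg, hθ g' hc' y]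
    have hyC : (y : G) ∈ fix G H := fun h hh => congrArg Subtype.val (hy h hh)
    -- `g'` commutes with `y`: the `p`-part of `g'` lies in `V`
    haveI := hC
    obtain ⟨k, hk⟩ := IsPGroup.iff_orderOf.1 hVp y
    obtain ⟨m, hm, hcop⟩ : ∃ m : ℕ, m.Coprime q ∧ (orderOf (g' ^ m)).Coprime p := by
      obtain ⟨j, m0, hm0, hj⟩ := Nat.exists_eq_pow_mul_and_not_dvd (orderOf_pos g').ne' p hp.out.ne_one
      refine ⟨p ^ j, ((Nat.coprime_primes hp.out hq).2 hqp.symm).pow_left j, ?_⟩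
      rw [orderOf_pow_of_dvd (pow_ne_zero j hp.out.pos.ne') ⟨m0, hj⟩, hj,
        Nat.mul_div_cancel_left _ (pow_pos hp.out.pos j)]
      exact ((hp.out.coprime_iff_not_dvd).2 hm0).symm
    have hcomm : Commute (g' ^ m) (y : G) := congrArg Subtype.val
      (Cfsg.Lib.PGroup.commute_of_coprime_orderOf
        (⟨g' ^ m, pow_mem hg' m⟩ : fix G H) ⟨y, hyC⟩ (by
          rw [Subgroup.orderOf_mk, Subgroup.orderOf_mk, Subgroup.orderOf_coe, hk]
          exact hcop.pow_right k)).eq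
    obtain ⟨r, hr⟩ := exists_pow_eq_self_of_coprime (x := (⟨(g' : G ⧸ V), hc'⟩ : E)) (n := m)
      (hm.coprime_dvd_right (orderOf_dvd_of_pow_eq_one (Subtype.ext hc'.2)))
    have hr' : ((g' ^ m) ^ r : G ⧸ V) = (g' : G ⧸ V) := congrArg Subtype.val hr
    rw [← QuotientGroup.mk_pow, ← QuotientGroup.mk_pow] at hr'
    have h4 := hθ ((g' ^ m) ^ r) (hr' ▸ hc') y
    rw [show (⟨(((g' ^ m) ^ r : G) : G ⧸ V), hr' ▸ hc'⟩ : E) = ⟨(g' : G ⧸ V), hc'⟩ from
      Subtype.ext hr', hθ g' hc' y] at h4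
    rw [h4, (hcomm.pow_left r).eq, mul_inv_cancel_right]

/-- The theorem. -/
theorem isNilpotent (hgen : F ⊔ H = ⊤) (hFH : Frob F H) :
    ∀ (n : ℕ) (G : Type u) [Group G] [Finite G] [MulDistribMulAction A G], Nat.card G = n →
      Fpf G F → Group.IsNilpotent ↥(fix G H) → Group.IsNilpotent G := by
  intro n
  induction n using Nat.strong_induction_on with
  | _ n ih =>
    intro G _ _ _ hn hfpf hC
    have hIH : Below A F H G := fun K _ _ _ hK => ih _ (hn ▸ hK) K rfl
    by_cases hp : ∃ p : ℕ, p.Prime ∧ IsPGroup p G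
    · obtain ⟨p, hp, hpG⟩ := hp
      haveI : Fact p.Prime := ⟨hp⟩
      exact hpG.isNilpotent
    push Not at hp
    by_cases hN : ∃ N : Subgroup G, N.Normal ∧ Inv (⊤ : Subgroup A) N ∧ N ≠ ⊥ ∧ N ≠ ⊤
    · obtain ⟨N, hNn, hNi, hN1, hN2⟩ := hN
      obtain ⟨p, hp', hpN⟩ := Nat.exists_prime_and_dvd
        (fun e => hN1 (Subgroup.card_eq_one.1 e) : Nat.card N ≠ 1)
      haveI : Fact p.Prime := ⟨hp'⟩
      obtain ⟨U, -, hU, -, hUmem, hUinv, hUn⟩ :=
        exists_sylow_of_nilpotent (A := A) (nilpotent_proper hfpf hC hIH N hNi hN2) p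
      have hUne : U ≠ ⊥ := fun e => by
        obtain ⟨x, hx⟩ := exists_prime_orderOf_dvd_card' (G := N) p hpN
        have h1 := hUmem x x.2 ⟨1, by rw [pow_one, Subgroup.orderOf_coe, hx]⟩
        rw [e, mem_bot, OneMemClass.coe_eq_one] at h1
        rw [h1, orderOf_one] at hx
        exact hp'.one_lt.ne hx
      obtain ⟨V, hVn, hVi, hVp, hVne, -, hVc, hmin⟩ :=
        exists_minimal_abelian (hUn hNn) (hUinv hNi) hU hUne
      haveI := hVn
      exact nilpotent_of_minimal hFH hfpf hC hIH hVi hVp hVne hVc hmin hp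
    push Not at hN
    have hsimple : ∀ N : Subgroup G, N.Normal → Inv (⊤ : Subgroup A) N → N = ⊥ ∨ N = ⊤ :=
      fun N h1 h2 => or_iff_not_imp_left.2 (hN N h1 h2)
    obtain ⟨r, hr, P, hr2, hrG, hPi⟩ :=
      exists_odd_sylow hgen hFH hfpf (nilpotent_proper hfpf hC hIH) hsimple hp
    have hPne : (P : Subgroup G) ≠ ⊥ := P.ne_bot_of_dvd_card hrG
    set Z := centerThompsonOf r (P : Subgroup G) with hZdef
    have hσ : ∀ a : A, Z.map (MulDistribMulAction.toMulAut A G a).toMonoidHom = Z := by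
      intro a
      rw [hZdef, Local.GlaubermanZJ.map_centerThompsonOf _ (MulEquiv.injective _)]
      congr 1
      refine eq_of_le_of_card_ge ?_ (card_map_of_injective (MulEquiv.injective _)).ge
      rintro _ ⟨x, hx, rfl⟩
      exact hPi a (mem_top a) x hx
    have hZi : Inv (⊤ : Subgroup A) Z := fun a _ x hx => hσ a ▸ mem_map_of_mem _ hx
    have hZne : Z ≠ ⊥ := Local.GlaubermanZJ.centerThompsonOf_ne_bot P.2 hPne
    have hZtop : Z ≠ ⊤ := fun e => hp r hr.out (((P.2.to_le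
      (inf_le_left.trans (Thompson.thompsonSubgroupOf_le _) : Z ≤ (P : Subgroup G))).of_equiv
      (MulEquiv.subgroupCongr e)).of_equiv topEquiv)
    have hNtop : normalizer (Z : Set G) ≠ ⊤ := fun e =>
      (hsimple Z (normalizer_eq_top_iff.1 e) hZi).elim hZne hZtop
    haveI := nilpotent_proper hfpf hC hIH _ (inv_normalizer hZi) hNtop
    have hcomp := Local.GlaubermanZJ.complement_of_centerThompson hr2 P
      Thompson.hasNormalPComplement_of_isNilpotent
    have hRi : Inv (⊤ : Subgroup A) (pResidual r G) := fun a _ x hx =>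
      (Fusion.map_pResidual_equiv (MulDistribMulAction.toMulAut A G a)) ▸ mem_map_of_mem _ hx
    exfalso
    rcases hsimple _ (Fusion.pResidual_normal r G) hRi with h | h
    · exact hp r hr.out (IsPGroup.of_equiv (Fusion.isPGroup_quotient_pResidual (G := G) (p := r))
        ((QuotientGroup.quotientMulEquivOfEq h).trans QuotientGroup.quotientBot))
    · have := Fusion.hasNormalPComplement_iff_coprime.1 hcomp
      rw [h, Subgroup.card_top] at this
      exact Nat.Prime.not_coprime_iff_dvd.2 ⟨r, hr.out, hrG, dvd_rfl⟩ this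

end Cfsg.Lib.FrobKernel
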