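import Cfsg.Agent.Lib.FrobKernel.Basic
import Cfsg.Agent.Lib.Coprime.Generation
import Mathlib.Algebra.BigOperators.Group.Finset.Basic

/-!
# Modules of Frobenius groups of operators

If `F` fixes only the identity of an abelian group, then `H` has a nontrivial fixed point and every
crossed homomorphism on `H` is principal.
-/

set_option autoImplicit false
set_option linter.style.haveILetI false
set_option linter.unusedSectionVars false

namespace Cfsg.Lib.FrobKernel

open Subgroup

universe v u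

variable {A : Type v} [Group A] {V : Type u} [CommGroup V] [MulDistribMulAction A V]

theorem smul_finsetProd (a : A) {ι : Type*} (s : Finset ι) (φ : ι → V) :
    a • ∏ i ∈ s, φ i = ∏ i ∈ s, a • φ i :=
  map_prod (MulDistribMulAction.toMonoidHom V a) φ s

theorem prod_eq_one_of_fpf {F : Subgroup A} [Fintype F] (hfpf : Fpf V F) (v : V) :
    ∏ f : F, (f : A) • v = 1 := by
  refine hfpf _ fun a ha => ?_
  rw [smul_finsetProd]
  refine Fintype.prod_equiv (Equiv.mulLeft (⟨a, ha⟩ : F)) _ _ fun f => ?_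
  rw [smul_smul]
  rfl

variable [Finite A]

/-- If `H` fixes only the identity, the identity of `V` is killed by the order of `F`. -/
theorem pow_card_eq_one {F H : Subgroup A} (hFH : Frob F H) (_hH : H ≠ ⊥) (hfpf : Fpf V F)
    (hfix : ∀ v, v ∈ fix V H → v = 1) (v : V) : v ^ Nat.card F = 1 := by
  classical
  letI := Fintype.ofFinite F
  letI := Fintype.ofFinite H
  have h1 : ∀ f : F, ∏ h : H, (f : A) • (h : A) • (f : A)⁻¹ • v = 1 := fun f => by
    rw [← smul_finsetProd]
    have h2 : ∏ h : H, (h : A) • (f : A)⁻¹ • v = 1 := hfix _ fun b hb => by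
      rw [smul_finsetProd]
      refine Fintype.prod_equiv (Equiv.mulLeft (⟨b, hb⟩ : H)) _ _ fun h => ?_
      rw [smul_smul]
      rfl
    rw [h2, smul_one]
  have h2 : ∀ h : H, h ≠ 1 → ∏ f : F, (f : A) • (h : A) • (f : A)⁻¹ • v = 1 := by
    intro h hne
    let φ : F → F := fun f => ⟨(f : A) * ((h : A) * (f : A)⁻¹ * (h : A)⁻¹),
      mul_mem f.2 (hFH.norm h h.2 _ (inv_mem f.2))⟩
    have hinj : Function.Injective φ := by
      intro f f' e
      have e' : (f : A) * ((h : A) * (f : A)⁻¹ * (h : A)⁻¹) =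
          (f' : A) * ((h : A) * (f' : A)⁻¹ * (h : A)⁻¹) := congrArg Subtype.val e
      have e2 : (h : A) * ((f' : A)⁻¹ * (f : A)) = ((f' : A)⁻¹ * (f : A)) * h := by
        have e3 := congrArg (fun x => (f' : A)⁻¹ * x * (h : A) * (f : A)) e'
        simp [mul_assoc] at e3
        simp [mul_assoc, e3]
      have := hFH.fpf h h.2 (by simpa using hne) _ (mul_mem (inv_mem f'.2) f.2) e2
      exact Subtype.ext (inv_mul_eq_one.1 this).symm
    rw [← prod_eq_one_of_fpf hfpf ((h : A) • v)]
    refine Fintype.prod_equiv (Equiv.ofBijective φ (Finite.injective_iff_bijective.1 hinj)) _ _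
      fun f => ?_
    show _ = ((f : A) * ((h : A) * (f : A)⁻¹ * (h : A)⁻¹)) • (h : A) • v
    simp only [smul_smul, mul_assoc, inv_mul_cancel, mul_one]
  have h3 : ∏ f : F, ∏ h : H, (f : A) • (h : A) • (f : A)⁻¹ • v = 1 :=
    Finset.prod_eq_one fun f _ => h1 f
  rw [Finset.prod_comm, Fintype.prod_eq_single (1 : H) fun h hne => h2 h hne] at h3
  simpa [Finset.prod_const, Nat.card_eq_fintype_card] using h3

/-- Fixed points of a Frobenius complement. -/
theorem exists_fixed {F H : Subgroup A} [Finite V] [Nontrivial V] (hFH : Frob F H)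
    (hfpf : Fpf V F) : ∃ v ∈ fix V H, v ≠ 1 := by
  by_cases hH : H = ⊥
  · obtain ⟨v, hv⟩ := exists_ne (1 : V)
    exact ⟨v, fun b hb => by rw [hH, mem_bot] at hb; rw [hb, one_smul], hv⟩
  obtain ⟨r, hr, hrV⟩ := Nat.exists_prime_and_dvd (Finite.one_lt_card (α := V)).ne'
  haveI : Fact r.Prime := ⟨hr⟩
  obtain ⟨P, Q, hPF, hQF, hPQ, hPr, hQr, hn⟩ := exists_split hFH.nil r
  have hPn : Norm F H P := norm_of_gen
    (fun a ha => (hn a fun f hf => mul_mem (mul_mem ha hf) (inv_mem ha)).1)
    (fun a ha => (hn a (hFH.norm a ha)).1)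
  have hQn : ∀ x ∈ H, ∀ f ∈ Q, x * f * x⁻¹ ∈ Q := fun a ha => (hn a (hFH.norm a ha)).2
  obtain ⟨w, hw⟩ := exists_prime_orderOf_dvd_card' (G := V) r hrV
  set W : Subgroup V := fix V P with hW
  have hWinv : Inv (F ⊔ H) W := inv_fix hPn
  have hdvd := dvd_card_fix hPr (inv_top (G := V) P) (by rw [card_top]; exact hrV)
  rw [top_inf_eq] at hdvd
  let B : Subgroup A := F ⊔ H
  letI : MulDistribMulAction B W :=
    { smul := fun a x => ⟨(a : A) • (x : V), hWinv a a.2 x x.2⟩
      one_smul := fun x => Subtype.ext (one_smul A (x : V))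
      mul_smul := fun a b x => Subtype.ext (mul_smul (a : A) b (x : V))
      smul_mul := fun a x y => Subtype.ext (smul_mul' (a : A) (x : V) y)
      smul_one := fun a => Subtype.ext (smul_one (a : A)) }
  have hQB : Q ≤ B := hQF.trans le_sup_left
  have hFH' : Frob (Q.subgroupOf B) (H.subgroupOf B) := by
    have h0 := hFH.mono hQF le_rfl hQn
    refine ⟨fun x hx f hf => h0.norm _ hx _ hf, ?_, fun x hx h1 f hf e => ?_, ?_⟩
    · rw [Nat.card_congr (subgroupOfEquivOfLe hQB).toEquiv,
        Nat.card_congr (subgroupOfEquivOfLe (le_sup_right : H ≤ B)).toEquiv]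
      exact h0.cop
    · exact Subtype.ext (h0.fpf _ hx (fun e1 => h1 (Subtype.ext e1)) _ hf (congrArg Subtype.val e))
    · haveI := h0.nil
      exact Group.nilpotent_of_mulEquiv (subgroupOfEquivOfLe hQB).symm
  have hfpf' : Fpf W (Q.subgroupOf B) := fun x hx => Subtype.ext (hfpf _ fun f hf => by
    have hle : F ≤ MulAction.stabilizer A (x : V) := hPQ ▸ sup_le (fun a ha => x.2 a ha)
      (fun a ha => congrArg Subtype.val (hx ⟨a, hQB ha⟩ ha))
    exact hle hf)
  by_contra hcon
  push Not at hcon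
  obtain ⟨x, hx⟩ := exists_prime_orderOf_dvd_card' (G := W) r hdvd
  have h1 := pow_card_eq_one hFH' (fun e => hH ((Subgroup.subgroupOf_eq_bot.1 e).eq_bot_of_le
    le_sup_right)) hfpf' (fun y hy => Subtype.ext (hcon _ fun b hb =>
      congrArg Subtype.val (hy ⟨b, mem_sup_right hb⟩ hb))) x
  rw [← orderOf_dvd_iff_pow_eq_one, hx, Nat.card_congr (subgroupOfEquivOfLe hQB).toEquiv] at h1
  exact hQr h1

/-- Crossed homomorphisms of a Frobenius complement are principal. -/
theorem exists_principal {F H : Subgroup A} (hFH : Frob F H) (hfpf : Fpf V F) (z : H → V)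
    (hz : ∀ g h : H, z (g * h) = z g * (g : A) • z h) :
    ∃ u : V, ∀ g : H, (g : A) • u = u * z g := by
  classical
  letI := Fintype.ofFinite F
  letI := Fintype.ofFinite H
  let X := {f : F // f ≠ 1}
  let e := Fintype.equivFin X
  let conj : H → X → X := fun h f => ⟨⟨(h : A) * (f.1 : A) * (h : A)⁻¹, hFH.norm h h.2 _ f.1.2⟩,
    fun e1 => f.2 (Subtype.ext (by
      have e2 : (h : A) * (f.1 : A) * (h : A)⁻¹ = 1 := congrArg Subtype.val e1
      simpa [mul_inv_eq_one] using e2))⟩
  have hcc : ∀ g h : H, ∀ f : X, conj g (conj h f) = conj (g * h) f := fun g h f =>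
    Subtype.ext (Subtype.ext (by simp [conj, mul_assoc]))
  have hc1 : ∀ f : X, conj 1 f = f := fun f => Subtype.ext (Subtype.ext (by simp [conj]))
  have hfree : ∀ (f : X) (g h : H), conj g f = conj h f → g = h := by
    intro f g h e1
    have e2 : conj (h⁻¹ * g) f = f := by
      rw [← hcc, e1, hcc, inv_mul_cancel, hc1]
    by_contra hne
    refine f.2 (Subtype.ext (hFH.fpf ((h⁻¹ * g : H) : A) (h⁻¹ * g).2 (fun e3 => hne ?_) _ f.1.2 ?_))
    · exact (inv_mul_eq_one.1 (Subtype.ext e3 : h⁻¹ * g = 1)).symm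
    · have e4 : ((h⁻¹ * g : H) : A) * (f.1 : A) * ((h⁻¹ * g : H) : A)⁻¹ = f.1 :=
        congrArg (fun x : X => (x.1 : A)) e2
      exact mul_inv_eq_iff_eq_mul.1 e4
  -- one representative in each orbit
  let rep : X → Prop := fun f => ∀ h : H, e f ≤ e (conj h f)
  let R : Finset X := Finset.univ.filter rep
  have hbij : Function.Bijective (fun p : H × {f : X // f ∈ R} => conj p.1 p.2.1) := by
    constructor
    · rintro ⟨g, f, hf⟩ ⟨g', f', hf'⟩ e1
      simp only at e1
      have hff : f' = conj (g'⁻¹ * g) f := by rw [← hcc, e1, hcc, inv_mul_cancel, hc1]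
      have hff2 : f = conj (g⁻¹ * g') f' := by rw [← hcc, ← e1, hcc, inv_mul_cancel, hc1]
      simp only [R, Finset.mem_filter, Finset.mem_univ, true_and] at hf hf'
      have l1 := hf (g'⁻¹ * g)
      have l2 := hf' (g⁻¹ * g')
      rw [← hff] at l1
      rw [← hff2] at l2
      have hee : f = f' := e.injective (le_antisymm l1 l2)
      subst hee
      rw [hfree f g g' e1]
    · intro f
      obtain ⟨h0, -, hmin⟩ := Finset.exists_min_image (Finset.univ : Finset H)
        (fun h => e (conj h f)) ⟨1, Finset.mem_univ _⟩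
      refine ⟨⟨h0⁻¹, conj h0 f, ?_⟩, by simp only; rw [hcc, inv_mul_cancel, hc1]⟩
      simp only [R, Finset.mem_filter, Finset.mem_univ, true_and]
      intro h
      rw [hcc]
      exact hmin _ (Finset.mem_univ _)
  -- the sum over all of `F` is zero
  let T : V → V := fun v => (∏ f ∈ R, (f.1 : A) • v)⁻¹
  have hT : ∀ v : V, ∏ h : H, (h : A) • T ((h : A)⁻¹ • v) = v := by
    intro v
    have h1 : v * ∏ f : X, (f.1 : A) • v = 1 := by
      refine Eq.trans ?_ (prod_eq_one_of_fpf hfpf v)
      rw [Fintype.prod_eq_mul_prod_compl (1 : F) (fun f : F => (f : A) • v), OneMemClass.coe_one,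
        one_smul]
      congr 1
      exact (Finset.prod_subtype (p := fun f : F => f ≠ 1) _ (by simp) (fun f : F => (f : A) • v)).symm
    have h2 : ∀ h : H, (h : A) • T ((h : A)⁻¹ • v) =
        (∏ f : {f : X // f ∈ R}, ((conj h f.1).1 : A) • v)⁻¹ := by
      intro h
      simp only [T, smul_inv', smul_finsetProd]
      congr 1
      rw [← Finset.prod_coe_sort]
      refine Finset.prod_congr rfl fun f _ => ?_
      simp [conj, smul_smul, mul_assoc]
    rw [Fintype.prod_congr _ _ h2, Finset.prod_inv_distrib, ← Fintype.prod_prod_type'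
      (f := fun (h : H) (f : {f : X // f ∈ R}) => ((conj h f.1).1 : A) • v),
      Fintype.prod_bijective _ hbij (fun p => ((conj p.1 p.2.1).1 : A) • v) (fun f => (f.1 : A) • v)
        fun p => rfl]
    exact (eq_inv_of_mul_eq_one_left h1).symm
  refine ⟨∏ h : H, (h : A) • T (z h⁻¹), fun g => ?_⟩
  rw [smul_finsetProd]
  conv_rhs => rw [← hT (z g), ← Finset.prod_mul_distrib]
  refine Fintype.prod_equiv (Equiv.mulLeft g) _ _ fun h => ?_
  show (g : A) • (h : A) • T (z h⁻¹) = ((g * h : H) : A) • T (z (g * h)⁻¹) *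
    ((g * h : H) : A) • T (((g * h : H) : A)⁻¹ • z g)
  rw [smul_smul, ← smul_mul', Subgroup.coe_mul]
  congr 1
  have h3 : z h⁻¹ = z (g * h)⁻¹ * (((g * h : H)⁻¹ : H) : A) • z g := by
    rw [← hz, mul_inv_rev, inv_mul_cancel_right]
  rw [h3]
  simp only [T, Subgroup.coe_inv, Subgroup.coe_mul, smul_mul', Finset.prod_mul_distrib, mul_inv]

end Cfsg.Lib.FrobKernel
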